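import Cfsg.Agent.Lib.CommValues.Solvable
import Cfsg.Agent.Lib.Solvable.Basic

/-!
The local structure forced on the central quotient of a minimal insoluble group with the
product-order condition: Sylow subgroups are trivial intersection sets, their normalisers are
maximal, and the maximal subgroups have nilpotent Fitting quotient.
-/

set_option autoImplicit false
set_option linter.style.haveILetI false
set_option linter.unusedSectionVars false

namespace Cfsg.Agent.CommValues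

open scoped commutatorElement

universe u

variable {G : Type u} [Group G]

/-- The Fitting subgroup of a subgroup, as a subgroup of the whole group. -/
def fitIn (M : Subgroup G) : Subgroup G := (Cfsg.fittingSubgroup ↥M).map M.subtype

/-- `x` is a nontrivial `p`-element and `M` is the normaliser of a Sylow subgroup containing it. -/
def Own (x : G) (M : Subgroup G) : Prop :=
  ∃ p : ℕ, p.Prime ∧ ∃ P : Sylow p G, x ∈ (P : Subgroup G) ∧ x ≠ 1 ∧
    M = Subgroup.normalizer ((P : Subgroup G) : Set G)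

/-- The configuration. -/
structure Config (G : Type u) [Group G] : Prop where
  simple : IsSimpleGroup G
  nsol : ¬ Group.IsSolvable G
  sol : ∀ K : Subgroup G, K ≠ ⊤ → Group.IsSolvable K
  nilq : ∀ K : Subgroup G, K ≠ ⊤ → ∃ n, K.lowerCentralSeries n ≤ fitIn K
  ti : ∀ p : ℕ, p.Prime → ∀ P Q : Sylow p G, ∀ u ∈ (P : Subgroup G), u ∈ (Q : Subgroup G) →
    u ≠ 1 → P = Q
  ex : ∀ p : ℕ, p.Prime → ∀ P : Sylow p G, (P : Subgroup G) ≠ ⊥ →
    ∃ x ∈ (P : Subgroup G), x ≠ 1 ∧ ∀ K : Subgroup G, K ≠ ⊤ → x ∈ K →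
      K ≤ Subgroup.normalizer ((P : Subgroup G) : Set G)
  engel : ∃ k : ℕ, ∀ p : ℕ, p.Prime → ∀ P : Sylow p G, ∀ u ∈ (P : Subgroup G),
    ∀ a ∈ Subgroup.normalizer ((P : Subgroup G) : Set G), engel a (k + 1) u ≠ 1 →
      ∀ K : Subgroup G, K ≠ ⊤ → engel a (k + 1) u ∈ K →
        K ≤ Subgroup.normalizer ((P : Subgroup G) : Set G)
  der : ∀ p : ℕ, p.Prime → ∀ P : Sylow p G, (P : Subgroup G) ≤
    ⁅Subgroup.normalizer ((P : Subgroup G) : Set G),
      Subgroup.normalizer ((P : Subgroup G) : Set G)⁆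

theorem fitIn_le (M : Subgroup G) : fitIn M ≤ M := Subgroup.map_subtype_le _

theorem mem_fitIn_of_pGroup {p : ℕ} [Finite G] (hp : p.Prime) {R M : Subgroup G} (hRM : R ≤ M)
    (hR : IsPGroup p R) (hn : ∀ g ∈ M, ∀ r ∈ R, g * r * g⁻¹ ∈ R) : R ≤ fitIn M := by
  intro r hr
  refine ⟨⟨r, hRM hr⟩, FittingCores.pCore_le_fitting hp
    (FittingCores.le_pCore (N := R.subgroupOf M) ?_ ?_ hr), rfl⟩
  · exact ⟨fun a ha g => hn g g.2 a ha⟩
  · exact hR.of_equiv (Subgroup.subgroupOfEquivOfLe hRM).symm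

/-- The product formula for the number of conjugates of a set stabilised by a subgroup. -/
theorem ncard_conjugates (L : Subgroup G) (S : Set G) (hS : ∀ l ∈ L, ∀ s ∈ S, l * s * l⁻¹ ∈ S)
    (hTI : ∀ g : G, ∀ s ∈ S, g * s * g⁻¹ ∈ S → g ∈ L) :
    {x : G | ∃ g : G, ∃ s ∈ S, x = g * s * g⁻¹}.ncard = L.index * S.ncard := by
  rw [Subgroup.index, ← Nat.card_coe_set_eq, ← Nat.card_coe_set_eq S, ← Nat.card_prod]
  refine (Nat.card_eq_of_bijective
    (fun qs : (G ⧸ L) × S => (⟨qs.1.out * qs.2 * qs.1.out⁻¹, qs.1.out, qs.2, qs.2.2, rfl⟩ :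
      {x : G | ∃ g : G, ∃ s ∈ S, x = g * s * g⁻¹})) ⟨?_, ?_⟩).symm
  · rintro ⟨q1, s1⟩ ⟨q2, s2⟩ h
    have h' : q1.out * (s1 : G) * q1.out⁻¹ = q2.out * (s2 : G) * q2.out⁻¹ :=
      congrArg Subtype.val h
    have h'' : (q2.out⁻¹ * q1.out) * (s1 : G) * (q2.out⁻¹ * q1.out)⁻¹ = s2 := by
      have : (q2.out⁻¹ * q1.out) * (s1 : G) * (q2.out⁻¹ * q1.out)⁻¹ =
          q2.out⁻¹ * (q1.out * (s1 : G) * q1.out⁻¹) * q2.out := by group
      rw [this, h']
      group
    have hl : q2.out⁻¹ * q1.out ∈ L := hTI _ _ s1.2 (by rw [h'']; exact s2.2)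
    have hq : q1 = q2 := by
      rw [← q1.out_eq', ← q2.out_eq']
      exact (QuotientGroup.eq.2 hl).symm
    subst hq
    have hs : (s1 : G) = s2 := by simpa using h''
    exact Prod.ext rfl (Subtype.ext hs)
  · rintro ⟨x, g, s, hs, rfl⟩
    set q : G ⧸ L := QuotientGroup.mk g with hq
    have hl : q.out⁻¹ * g ∈ L := QuotientGroup.eq.1 q.out_eq'
    refine ⟨(q, ⟨_, hS _ hl s hs⟩), Subtype.ext ?_⟩
    change q.out * ((q.out⁻¹ * g) * s * (q.out⁻¹ * g)⁻¹) * q.out⁻¹ = g * s * g⁻¹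
    group

namespace Config

variable [Finite G] (hc : Config G)

include hc

theorem normalizer_ne_top {p : ℕ} (hp : p.Prime) {P : Sylow p G} (hP : (P : Subgroup G) ≠ ⊥) :
    Subgroup.normalizer ((P : Subgroup G) : Set G) ≠ ⊤ := by
  intro h
  haveI := hc.simple
  haveI := Fact.mk hp
  rcases (Subgroup.normalizer_eq_top_iff.1 h).eq_bot_or_eq_top with h1 | h1
  · exact hP h1
  · haveI : Group.IsNilpotent G :=
      ((P.isPGroup'.of_equiv ((MulEquiv.subgroupCongr h1).trans Subgroup.topEquiv))).isNilpotent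
    exact hc.nsol inferInstance

omit hc in
theorem ne_bot_of_mem {P : Subgroup G} {x : G} (hx : x ∈ P) (h1 : x ≠ 1) : P ≠ ⊥ :=
  fun h => h1 (Subgroup.mem_bot.1 (h ▸ hx))

theorem maximal {p : ℕ} (hp : p.Prime) {P : Sylow p G} (hP : (P : Subgroup G) ≠ ⊥)
    {K : Subgroup G} (hK : K ≠ ⊤) (hle : Subgroup.normalizer ((P : Subgroup G) : Set G) ≤ K) :
    K = Subgroup.normalizer ((P : Subgroup G) : Set G) := by
  obtain ⟨x, hx, -, huniq⟩ := hc.ex p hp P hP
  exact le_antisymm (huniq K hK (hle (Subgroup.le_normalizer hx))) hle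

/-- Own is functional. -/
theorem own_unique {x : G} {M M' : Subgroup G} (h : Own x M) (h' : Own x M') : M = M' := by
  obtain ⟨p, hp, P, hx, h1, rfl⟩ := h
  obtain ⟨p', hp', P', hx', -, rfl⟩ := h'
  haveI := Fact.mk hp
  haveI := Fact.mk hp'
  obtain ⟨i, hi⟩ := mem_isPGroup_orderOf P.isPGroup' hx
  obtain ⟨j, hj⟩ := mem_isPGroup_orderOf P'.isPGroup' hx'
  have hi0 : i ≠ 0 := by rintro rfl; exact h1 (orderOf_eq_one_iff.1 (hi.trans (pow_zero p)))
  obtain rfl : p = p' := (Nat.prime_dvd_prime_iff_eq hp hp').1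
    (hp.dvd_of_dvd_pow ((dvd_pow_self p hi0).trans (hi.symm.trans hj).dvd))
  rw [hc.ti p hp P P' x hx hx' h1]

omit hc in
theorem exists_own {x : G} (h1 : x ≠ 1) {p i : ℕ} (hp : p.Prime) (hx : orderOf x = p ^ i) :
    ∃ M, Own x M := by
  haveI := Fact.mk hp
  obtain ⟨P, hP⟩ := (IsPGroup.of_card (n := i)
    (by rw [Nat.card_zpowers, hx]) : IsPGroup p (Subgroup.zpowers x)).exists_le_sylow
  exact ⟨_, p, hp, P, hP (Subgroup.mem_zpowers x), h1, rfl⟩

omit hc in
theorem own_conj {x : G} {M : Subgroup G} (h : Own x M) (g : G) :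
    Own (g * x * g⁻¹) (M.map (MulAut.conj g).toMonoidHom) := by
  obtain ⟨p, hp, P, hx, h1, rfl⟩ := h
  haveI := Fact.mk hp
  refine ⟨p, hp, P.mapSurjective (f := (MulAut.conj g).toMonoidHom) (MulAut.conj g).surjective,
    ⟨x, hx, rfl⟩, fun h => h1 ((MulAut.conj g).injective (h.trans (map_one _).symm)), ?_⟩
  exact Subgroup.map_equiv_normalizer_eq (P : Subgroup G) (MulAut.conj g)

theorem own_ne_top {x : G} {M : Subgroup G} (h : Own x M) : M ≠ ⊤ := by
  obtain ⟨p, hp, P, hx, h1, rfl⟩ := h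
  exact hc.normalizer_ne_top hp (ne_bot_of_mem hx h1)

omit hc in
theorem own_mem {x : G} {M : Subgroup G} (h : Own x M) : x ∈ fitIn M := by
  obtain ⟨p, hp, P, hx, -, rfl⟩ := h
  exact mem_fitIn_of_pGroup hp Subgroup.le_normalizer P.isPGroup'
    (fun g hg r hr => (Subgroup.mem_normalizer_iff.1 hg r).1 hr) hx

/-- A conjugating element stays in the owner. -/
theorem mem_of_own_conj {x g : G} {M : Subgroup G} (h : Own x M) (h' : Own (g * x * g⁻¹) M) :
    g ∈ M := by
  have h1 := hc.own_unique (own_conj h g) h'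
  obtain ⟨p, hp, P, hx, hx1, rfl⟩ := h
  haveI := Fact.mk hp
  have hP := ne_bot_of_mem hx hx1
  have hg : g ∈ Subgroup.normalizer
      ((Subgroup.normalizer ((P : Subgroup G) : Set G) : Subgroup G) : Set G) := by
    rw [Subgroup.mem_normalizer_iff]
    intro y
    constructor
    · intro hy; rw [← h1]; exact ⟨y, hy, rfl⟩
    · intro hy
      rw [← h1] at hy
      obtain ⟨z, hz, hzy⟩ := hy
      rwa [(MulAut.conj g).injective (hzy : MulAut.conj g z = MulAut.conj g y)] at hz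
  exact P.normalizer_normalizer.le hg

/-- Commuting with an owned element. -/
theorem mem_of_commute {x g : G} {M : Subgroup G} (h : Own x M) (hg : Commute g x) : g ∈ M :=
  hc.mem_of_own_conj h (by rw [hg.eq, mul_inv_cancel_right]; exact h)

/-- Prime power elements of the Fitting subgroup of an owner are owned by it. -/
theorem own_of_mem_fitIn {x y : G} {M : Subgroup G} (hM : Own y M) (hx : x ∈ fitIn M) (h1 : x ≠ 1)
    {r i : ℕ} (hr : r.Prime) (hxo : orderOf x = r ^ i) : Own x M := by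
  haveI := Fact.mk hr
  obtain ⟨p, hp, P, hy, hy1, rfl⟩ := hM
  set M := Subgroup.normalizer ((P : Subgroup G) : Set G) with hMd
  have hP := ne_bot_of_mem hy hy1
  set R0 := (Cfsg.pCore r ↥M).map M.subtype with hR0
  have hxR : x ∈ R0 := by
    obtain ⟨z, hz, rfl⟩ := hx
    haveI : (Cfsg.fittingSubgroup ↥M).Normal := FittingCores.fitting_normal
    haveI := FittingCores.fitting_nilpotent (G := ↥M)
    exact ⟨z, FiniteGroup.mem_pCore_of_mem_normal_nilpotent _ hz
      ⟨i, by rw [← hxo]; exact (Subgroup.orderOf_coe z).symm⟩, rfl⟩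
  obtain ⟨R, hR⟩ := ((FittingCores.pCore_isPGroup r).map M.subtype : IsPGroup r R0).exists_le_sylow
  refine ⟨r, hr, R, hR hxR, h1, ?_⟩
  have hle : M ≤ Subgroup.normalizer ((R : Subgroup G) : Set G) := by
    intro g hg
    refine Sylow.smul_eq_iff_mem_normalizer.mp ?_
    refine hc.ti r hr _ _ (g * x * g⁻¹) ?_ (hR ?_) ?_
    · rw [Sylow.coe_subgroup_smul]; exact ⟨x, hR hxR, rfl⟩
    · obtain ⟨z, hz, rfl⟩ := hxR
      exact ⟨⟨g, hg⟩ * z * ⟨g, hg⟩⁻¹, (FittingCores.pCore_normal r).conj_mem z hz _, rfl⟩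
    · exact fun h => h1 ((MulAut.conj g).injective (h.trans (map_one _).symm))
  exact (hc.maximal hp hP (hc.normalizer_ne_top hr (ne_bot_of_mem (hR hxR) h1)) hle).symm

/-- Distinct owners have Fitting subgroups meeting trivially. -/
theorem fitIn_inf {x y : G} {M M' : Subgroup G} (h : Own x M) (h' : Own y M') (hne : M ≠ M') :
    fitIn M ⊓ fitIn M' = ⊥ := by
  rw [eq_bot_iff]
  intro z hz
  refine FiniteGroup.mem_of_primePow_mem _ z fun r hr w hw ⟨i, hi⟩ => ?_
  rw [Subgroup.mem_bot]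
  by_contra hw1
  have hw' := (Subgroup.zpowers_le.2 hz) hw
  exact hne (hc.own_unique (hc.own_of_mem_fitIn h hw'.1 hw1 hr hi)
    (hc.own_of_mem_fitIn h' hw'.2 hw1 hr hi))

/-- Two owners in a nilpotent subgroup of elements of the same prime coincide. -/
theorem own_eq_of_nilpotent {K : Subgroup G} (hK : Group.IsNilpotent K) {z w : G} (hz : z ∈ K)
    (hw : w ∈ K) {r i j : ℕ} (hr : r.Prime) (hzo : orderOf z = r ^ i) (hwo : orderOf w = r ^ j)
    {N N' : Subgroup G} (hN : Own z N) (hN' : Own w N') : N = N' := by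
  haveI := Fact.mk hr
  have hmem : ∀ {a : G} (ha : a ∈ K) {l : ℕ}, orderOf a = r ^ l →
      (⟨a, ha⟩ : K) ∈ Cfsg.pCore r K := by
    intro a ha l hl
    haveI : Group.IsNilpotent (⊤ : Subgroup K) := Group.isNilpotent_top.2 hK
    exact FiniteGroup.mem_pCore_of_mem_normal_nilpotent ⊤ (Subgroup.mem_top _)
      ⟨l, by rw [Subgroup.orderOf_mk]; exact hl⟩
  obtain ⟨R, hR⟩ := ((FittingCores.pCore_isPGroup r).map K.subtype :
    IsPGroup r ((Cfsg.pCore r K).map K.subtype)).exists_le_sylow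
  have hz1 : z ≠ 1 := by obtain ⟨_, _, _, _, h, -⟩ := hN; exact h
  have hw1 : w ≠ 1 := by obtain ⟨_, _, _, _, h, -⟩ := hN'; exact h
  exact (hc.own_unique hN ⟨r, hr, R, hR ⟨_, hmem hz hzo, rfl⟩, hz1, rfl⟩).trans
    (hc.own_unique ⟨r, hr, R, hR ⟨_, hmem hw hwo, rfl⟩, hw1, rfl⟩ hN')

/-- A nilpotent subgroup lies in the owners of its elements. -/
theorem le_of_nilpotent {K : Subgroup G} (hK : Group.IsNilpotent K) {z : G} (hz : z ∈ K)
    {N : Subgroup G} (hN : Own z N) : K ≤ N := by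
  have hNc := hN
  obtain ⟨r, hr, R, hzR, hz1, rfl⟩ := hN
  haveI := Fact.mk hr
  obtain ⟨i, hi⟩ := mem_isPGroup_orderOf R.isPGroup' hzR
  intro x hx
  refine FiniteGroup.mem_of_primePow_mem _ x fun s hs w hw ⟨j, hj⟩ => ?_
  have hwK := (Subgroup.zpowers_le.2 hx) hw
  by_cases hw1 : w = 1
  · rw [hw1]; exact one_mem _
  by_cases hsr : s = r
  · subst hsr
    obtain ⟨N', hN'⟩ := exists_own hw1 hs hj
    rw [hc.own_eq_of_nilpotent hK hz hwK hs hi hj hNc hN']
    exact fitIn_le _ (own_mem hN')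
  · haveI := hK
    refine hc.mem_of_commute hNc ?_
    have h2 := (commute_of_nilpotent (x := (⟨w, hwK⟩ : K)) (y := ⟨z, hz⟩) (by
      rw [Subgroup.orderOf_mk, Subgroup.orderOf_mk, hj, hi]
      exact Nat.Coprime.pow _ _ ((Nat.coprime_primes hs hr).2 hsr))).map K.subtype
    exact h2

/-- The intersection of two distinct owners is nilpotent. -/
theorem inf_nilpotent {x y : G} {M M' : Subgroup G} (h : Own x M) (h' : Own y M') (hne : M ≠ M') :
    Group.IsNilpotent (M ⊓ M' : Subgroup G) := by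
  obtain ⟨n, hn⟩ := hc.nilq M (hc.own_ne_top h)
  obtain ⟨n', hn'⟩ := hc.nilq M' (hc.own_ne_top h')
  refine (Subgroup.isNilpotent_iff_lowerCentralSeries _).2 ⟨max n n', ?_⟩
  rw [← le_bot_iff, ← hc.fitIn_inf h h' hne]
  refine le_inf ?_ ?_
  · exact ((Subgroup.lowerCentralSeries_antitone _ (le_max_left n n')).trans
      (Subgroup.lowerCentralSeries_mono n inf_le_left)).trans hn
  · exact ((Subgroup.lowerCentralSeries_antitone _ (le_max_right n n')).trans
      (Subgroup.lowerCentralSeries_mono n' inf_le_right)).trans hn'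

end Config

end Cfsg.Agent.CommValues
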