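import Cfsg.Agent.Lib.CommValues.Config

/-!
Counting conjugates: in the configuration commuting elements of prime power order have the same
owner.
-/

set_option autoImplicit false
set_option linter.style.haveILetI false
set_option linter.unusedSectionVars false

namespace Cfsg.Agent.CommValues

universe u

variable {G : Type u} [Group G] [Finite G]

/-- The arithmetic behind the counting. -/
theorem count_false {α : Type*} (S : Finset α) (i f a : α → ℤ) (d c t : ℤ) (hn : 2 ≤ S.card)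
    (hrel : ∀ s ∈ S, i s * f s = d * a s) (hhalf : ∀ s ∈ S, 2 * i s ≤ d) (hd : 0 < d)
    (hC : c = 1 + t + ∑ s ∈ S, (a s - 1))
    (hle : (∑ s ∈ S, i s * (f s - 1)) + d * t + 1 ≤ d * c) : False := by
  have h1 : ∑ s ∈ S, i s * (f s - 1) = d * (∑ s ∈ S, a s) - ∑ s ∈ S, i s := by
    rw [Finset.mul_sum, ← Finset.sum_sub_distrib]
    exact Finset.sum_congr rfl fun s hs => by rw [mul_sub, mul_one, hrel s hs]
  have h2 : ∑ s ∈ S, (a s - 1) = (∑ s ∈ S, a s) - S.card := by
    rw [Finset.sum_sub_distrib, Finset.sum_const, nsmul_eq_mul, mul_one]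
  have h3 : 2 * ∑ s ∈ S, i s ≤ S.card * d := by
    rw [Finset.mul_sum]
    refine (Finset.sum_le_sum hhalf).trans ?_
    rw [Finset.sum_const, nsmul_eq_mul]
  rw [hC, h1, h2] at hle
  have hn' : (2 : ℤ) ≤ S.card := by exact_mod_cast hn
  nlinarith

theorem ncard_biUnion_finset {α : Type*} {β : Type*} [Finite β] {S : Finset α} {f : α → Set β}
    (h : (S : Set α).PairwiseDisjoint f) : (⋃ i ∈ S, f i).ncard = ∑ i ∈ S, (f i).ncard := by
  classical
  induction S using Finset.induction_on with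
  | empty => simp
  | insert a S ha ih =>
    rw [Finset.coe_insert] at h
    rw [Finset.set_biUnion_insert, Finset.sum_insert ha, Set.ncard_union_eq, ih
      (h.subset (Set.subset_insert _ _))]
    rw [Set.disjoint_iUnion₂_right]
    exact fun i hi => h (Set.mem_insert _ _) (Set.mem_insert_of_mem _ hi) (fun e => ha (e ▸ hi))

namespace Config

variable (hc : Config G)

include hc

/-- Commuting elements of prime power order have the same owner. -/
theorem own_eq_of_commute {x y : G} {M M' : Subgroup G} (hM : Own x M) (hM' : Own y M')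
    (hxy : Commute x y) : M = M' := by
  classical
  by_contra hne
  set C := M ⊓ M' with hCdef
  have hCnil : Group.IsNilpotent C := hc.inf_nilpotent hM hM' hne
  have hxC : x ∈ C := ⟨fitIn_le _ (own_mem hM), hc.mem_of_commute hM' hxy⟩
  have hyC : y ∈ C := ⟨hc.mem_of_commute hM hxy.symm, fitIn_le _ (own_mem hM')⟩
  set S : Finset (Subgroup G) :=
    (Set.toFinite {N : Subgroup G | ∃ z ∈ C, Own z N}).toFinset with hSdef
  have hS : ∀ N, N ∈ S ↔ ∃ z ∈ C, Own z N := fun N => by rw [hSdef, Set.Finite.mem_toFinset]; rfl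
  have hMS : M ∈ S := (hS M).2 ⟨x, hxC, hM⟩
  have hM'S : M' ∈ S := (hS M').2 ⟨y, hyC, hM'⟩
  have hn : 2 ≤ S.card := Finset.one_lt_card.2 ⟨M, hMS, M', hM'S, hne⟩
  have hCN : ∀ N ∈ S, C ≤ N := fun N hN =>
    let ⟨z, hz, hzN⟩ := (hS N).1 hN; hc.le_of_nilpotent hCnil hz hzN
  have hpair : ∀ N ∈ S, ∀ N' ∈ S, N ≠ N' → N ⊓ N' = C := by
    intro N hN N' hN' h
    obtain ⟨z, -, hzN⟩ := (hS N).1 hN
    obtain ⟨z', -, hzN'⟩ := (hS N').1 hN'
    have hle : C ≤ N ⊓ N' := le_inf (hCN N hN) (hCN N' hN')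
    have hnil := hc.inf_nilpotent hzN hzN' h
    exact le_antisymm
      (le_inf (hc.le_of_nilpotent hnil (hle hxC) hM) (hc.le_of_nilpotent hnil (hle hyC) hM')) hle
  have hother : ∀ N ∈ S, ∃ N' ∈ S, N ≠ N' := by
    intro N _
    rcases eq_or_ne N M with h | h
    · exact ⟨M', hM'S, h ▸ hne⟩
    · exact ⟨M, hMS, h⟩
  have hsame : ∀ N ∈ S, ∀ N' ∈ S, fitIn N ⊓ fitIn N' ≠ ⊥ → N = N' := by
    intro N hN N' hN' h
    obtain ⟨z, -, hzN⟩ := (hS N).1 hN
    obtain ⟨z', -, hzN'⟩ := (hS N').1 hN'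
    by_contra h'
    exact h (hc.fitIn_inf hzN hzN' h')
  -- owners inside `S` are not conjugate
  have hnc : ∀ N ∈ S, ∀ N' ∈ S, ∀ h : G, N.map (MulAut.conj h).toMonoidHom = N' → N = N' := by
    intro N hN N' hN' h hh
    obtain ⟨z, hzC, hzN⟩ := (hS N).1 hN
    have hw := own_conj hzN h
    rw [hh] at hw
    obtain ⟨s, hs, R, hwR, hw1, hNR⟩ := hw
    haveI := Fact.mk hs
    obtain ⟨j, hj⟩ := mem_isPGroup_orderOf R.isPGroup' hwR
    have hzj : orderOf z = s ^ j := by
      rw [← hj]; exact (orderOf_injective (MulAut.conj h).toMonoidHom (MulAut.conj h).injective z).symm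
    have hz1 : z ≠ 1 := by obtain ⟨_, _, _, _, h1, -⟩ := hzN; exact h1
    have hzR : z ∈ (R : Subgroup G) := by
      have hzN' : z ∈ Subgroup.normalizer ((R : Subgroup G) : Set G) := hNR ▸ hCN N' hN' hzC
      refine Subgroup.zpowers_le.1 ?_
      have hp : IsPGroup s (Subgroup.zpowers z) := IsPGroup.of_card (n := j)
        (by rw [Nat.card_zpowers, hzj])
      have hsup : IsPGroup s ↥(Subgroup.zpowers z ⊔ (R : Subgroup G)) :=
        hp.to_sup_of_normal_right' R.isPGroup' (Subgroup.zpowers_le.2 hzN')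
      rw [← R.is_maximal' hsup le_sup_right]
      exact le_sup_left
    exact hc.own_unique hzN ⟨s, hs, R, hzR, hz1, hNR⟩
  -- the parts
  set U : Subgroup G → Set G := fun N =>
    {w | ∃ g : G, ∃ f ∈ ((fitIn N : Set G) \ {1}), w = g * f * g⁻¹} with hU
  set C0 : Set G := {c | c ∈ C ∧ ∀ N ∈ S, c ∉ fitIn N} with hC0
  set U0 : Set G := {w | ∃ g : G, ∃ f ∈ C0, w = g * f * g⁻¹} with hU0
  have hC01 : (1 : G) ∉ C0 := fun h => h.2 M hMS (one_mem _)
  -- components of an element of `C`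
  have hcomp : ∀ c ∈ C, ∀ N ∈ S, (∀ w ∈ Subgroup.zpowers c, ∀ N', Own w N' → N' = N) →
      c ∈ fitIn N := by
    intro c _ N _ hall
    refine FiniteGroup.mem_of_primePow_mem _ c fun r hr w hw ⟨i, hi⟩ => ?_
    by_cases h1 : w = 1
    · rw [h1]; exact one_mem _
    obtain ⟨N', hN'⟩ := exists_own h1 hr hi
    rw [← hall w hw N' hN']
    exact own_mem hN'
  have hnormF : ∀ (N : Subgroup G), ∀ l ∈ N, ∀ s ∈ ((fitIn N : Set G) \ {1}),
      l * s * l⁻¹ ∈ ((fitIn N : Set G) \ {1}) := by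
    rintro N l hl s ⟨⟨z, hz, rfl⟩, hs1⟩
    refine ⟨⟨⟨l, hl⟩ * z * ⟨l, hl⟩⁻¹, FittingCores.fitting_normal.conj_mem z hz _, rfl⟩, ?_⟩
    intro h
    exact hs1 ((MulAut.conj l).injective ((h : l * _ * l⁻¹ = 1).trans (map_one _).symm))
  -- a nontrivial prime power component
  have hprime : ∀ f : G, f ≠ 1 → ∃ w ∈ Subgroup.zpowers f, ∃ r i : ℕ, r.Prime ∧
      orderOf w = r ^ i ∧ w ≠ 1 := by
    intro f hf
    by_contra h
    push Not at h
    refine hf (Subgroup.mem_bot.1 (FiniteGroup.mem_of_primePow_mem ⊥ f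
      fun r hr w hw ⟨i, hi⟩ => Subgroup.mem_bot.2 (h w hw r i hr hi)))
  have hTI : ∀ N ∈ S, ∀ g : G, ∀ s ∈ ((fitIn N : Set G) \ {1}),
      g * s * g⁻¹ ∈ ((fitIn N : Set G) \ {1}) → g ∈ N := by
    intro N hN g s hs hgs
    obtain ⟨z, -, hzN⟩ := (hS N).1 hN
    obtain ⟨w, hw, r, i, hr, hwo, hw1⟩ := hprime s hs.2
    refine hc.mem_of_own_conj (x := w)
      (hc.own_of_mem_fitIn hzN ((Subgroup.zpowers_le.2 hs.1) hw) hw1 hr hwo) ?_
    refine hc.own_of_mem_fitIn hzN ?_ ?_ hr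
      (by rw [← hwo]; exact orderOf_injective (MulAut.conj g).toMonoidHom (MulAut.conj g).injective w)
    · obtain ⟨j, rfl⟩ := Subgroup.mem_zpowers_iff.1 hw
      rw [← conj_zpow]
      exact Subgroup.zpow_mem _ hgs.1 j
    · exact fun h => hw1 ((MulAut.conj g).injective (h.trans (map_one _).symm))
  -- elements of `C0` have two owners
  have htwo : ∀ c ∈ C0, ∃ w₁ ∈ Subgroup.zpowers c, ∃ w₂ ∈ Subgroup.zpowers c, ∃ N₁ N₂,
      Own w₁ N₁ ∧ Own w₂ N₂ ∧ N₁ ≠ N₂ := by
    intro c hcC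
    obtain ⟨w, hw, r, i, hr, hwo, hw1⟩ := hprime c (fun h => hC01 (h ▸ hcC))
    obtain ⟨N, hN⟩ := exists_own hw1 hr hwo
    by_contra h
    push Not at h
    have hNS : N ∈ S := (hS N).2 ⟨w, (Subgroup.zpowers_le.2 hcC.1) hw, hN⟩
    exact hcC.2 N hNS (hcomp c hcC.1 N hNS fun w' hw' N' hN' => (h w' hw' w hw N' N hN' hN))
  have hTI0 : ∀ g : G, ∀ s ∈ C0, g * s * g⁻¹ ∈ C0 → g ∈ C := by
    intro g s hs hgs
    obtain ⟨w₁, hw₁, w₂, hw₂, N₁, N₂, h1, h2, h12⟩ := htwo s hs
    have key : ∀ {w : G} {N : Subgroup G}, w ∈ Subgroup.zpowers s → Own w N → g ∈ N := by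
      intro w N hw hN
      have hgw : g * w * g⁻¹ ∈ C := by
        obtain ⟨j, rfl⟩ := Subgroup.mem_zpowers_iff.1 hw
        rw [← conj_zpow]
        exact Subgroup.zpow_mem _ hgs.1 j
      have hgN := own_conj hN g
      refine hc.mem_of_own_conj hN ?_
      obtain ⟨r, hr, R, hwR, hw1, hNR⟩ := hN
      haveI := Fact.mk hr
      obtain ⟨j, hj⟩ := mem_isPGroup_orderOf R.isPGroup' hwR
      have hgj : orderOf (g * w * g⁻¹) = r ^ j := by
        rw [← hj]; exact orderOf_injective (MulAut.conj g).toMonoidHom (MulAut.conj g).injective w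
      have := hc.own_eq_of_nilpotent hCnil ((Subgroup.zpowers_le.2 hs.1) hw) hgw hr hj hgj
        (N := N) ⟨r, hr, R, hwR, hw1, hNR⟩ hgN
      exact this ▸ hgN
    have h1S : N₁ ∈ S := (hS N₁).2 ⟨w₁, (Subgroup.zpowers_le.2 hs.1) hw₁, h1⟩
    have h2S : N₂ ∈ S := (hS N₂).2 ⟨w₂, (Subgroup.zpowers_le.2 hs.1) hw₂, h2⟩
    rw [← hpair N₁ h1S N₂ h2S h12]
    exact ⟨key hw₁ h1, key hw₂ h2⟩
  have hnorm0 : ∀ l ∈ C, ∀ s ∈ C0, l * s * l⁻¹ ∈ C0 := by
    intro l hl s hs
    refine ⟨C.mul_mem (C.mul_mem hl hs.1) (C.inv_mem hl), fun N hN hmem => hs.2 N hN ?_⟩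
    have hl' : l⁻¹ ∈ N := N.inv_mem (hCN N hN hl)
    by_cases h1 : l * s * l⁻¹ = 1
    · have : s = 1 := (MulAut.conj l).injective (h1.trans (map_one _).symm)
      rw [this]; exact one_mem _
    · have := (hnormF N l⁻¹ hl' _ ⟨hmem, h1⟩).1
      have he : l⁻¹ * (l * s * l⁻¹) * l⁻¹⁻¹ = s := by group
      rwa [he] at this
  -- disjointness
  have hdisjUU : (S : Set (Subgroup G)).PairwiseDisjoint U := by
    intro N hN N' hN' hNN'
    rw [Function.onFun, Set.disjoint_left]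
    rintro v ⟨g, f, hf, rfl⟩ ⟨g', f', hf', hv⟩
    obtain ⟨z, -, hzN⟩ := (hS N).1 hN
    obtain ⟨z', -, hzN'⟩ := (hS N').1 hN'
    obtain ⟨w, hw, r, i, hr, hwo, hw1⟩ := hprime f hf.2
    set h := g'⁻¹ * g with hh
    have hhf : h * f * h⁻¹ = f' := by
      have : h * f * h⁻¹ = g'⁻¹ * (g * f * g⁻¹) * g' := by rw [hh]; group
      rw [this, hv]; group
    have ho : Own (h * w * h⁻¹) N' := by
      refine hc.own_of_mem_fitIn hzN' ?_ ?_ hr
        (by rw [← hwo]; exact orderOf_injective (MulAut.conj h).toMonoidHom (MulAut.conj h).injective w)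
      · obtain ⟨j, rfl⟩ := Subgroup.mem_zpowers_iff.1 hw
        rw [← conj_zpow, hhf]
        exact Subgroup.zpow_mem _ hf'.1 j
      · exact fun e => hw1 ((MulAut.conj h).injective (e.trans (map_one _).symm))
    exact hNN' (hnc N hN N' hN' h (hc.own_unique
      (own_conj (hc.own_of_mem_fitIn hzN ((Subgroup.zpowers_le.2 hf.1) hw) hw1 hr hwo) h) ho))
  have hdisj0 : Disjoint (⋃ N ∈ S, U N) U0 := by
    rw [Set.disjoint_iUnion₂_left]
    intro N hN
    rw [Set.disjoint_left]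
    rintro v ⟨g, f, hf, rfl⟩ ⟨g', c, hc0, hv⟩
    obtain ⟨z, -, hzN⟩ := (hS N).1 hN
    set h := g⁻¹ * g' with hh
    have hhc : h * c * h⁻¹ = f := by
      have : h * c * h⁻¹ = g⁻¹ * (g' * c * g'⁻¹) * g := by rw [hh]; group
      rw [this, ← hv]; group
    obtain ⟨w₁, hw₁, w₂, hw₂, N₁, N₂, h1, h2, h12⟩ := htwo c hc0
    apply h12
    have key : ∀ {w : G} {N' : Subgroup G}, w ∈ Subgroup.zpowers c → Own w N' →
        N'.map (MulAut.conj h).toMonoidHom = N := by
      intro w N' hw hN'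
      have hw1 : w ≠ 1 := by obtain ⟨_, _, _, _, h', -⟩ := hN'; exact h'
      obtain ⟨r, hr, R, hwR, hh1, hNR⟩ := own_conj hN' h
      haveI := Fact.mk hr
      obtain ⟨j, hj⟩ := mem_isPGroup_orderOf R.isPGroup' hwR
      refine hc.own_unique ⟨r, hr, R, hwR, hh1, hNR⟩ (hc.own_of_mem_fitIn hzN ?_ ?_ hr hj)
      · obtain ⟨i, rfl⟩ := Subgroup.mem_zpowers_iff.1 hw
        rw [← conj_zpow, hhc]
        exact Subgroup.zpow_mem _ hf.1 i
      · exact fun e => hw1 ((MulAut.conj h).injective (e.trans (map_one _).symm))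
    exact Subgroup.map_injective (MulAut.conj h).injective ((key hw₁ h1).trans (key hw₂ h2).symm)
  -- the decomposition of `C`
  set A : Subgroup G → Set G := fun N => ((C : Set G) ∩ fitIn N) \ {1} with hA
  have hCdec : (C : Set G) = insert 1 (C0 ∪ ⋃ N ∈ S, A N) := by
    ext c
    simp only [Set.mem_insert_iff, Set.mem_union, Set.mem_iUnion, exists_prop]
    constructor
    · intro hcC
      by_cases h1 : c = 1
      · exact Or.inl h1
      by_cases h : ∀ N ∈ S, c ∉ fitIn N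
      · exact Or.inr (Or.inl ⟨hcC, h⟩)
      · push Not at h
        obtain ⟨N, hN, hcN⟩ := h
        exact Or.inr (Or.inr ⟨N, hN, ⟨hcC, hcN⟩, h1⟩)
    · rintro (rfl | h | ⟨N, -, h⟩)
      · exact C.one_mem
      · exact h.1
      · exact h.1.1
  have hAdisj : (S : Set (Subgroup G)).PairwiseDisjoint A := by
    intro N hN N' hN' hNN'
    rw [Function.onFun, Set.disjoint_left]
    rintro v hv hv'
    refine hNN' (hsame N hN N' hN' fun hb => hv.2 ?_)
    exact Subgroup.mem_bot.1 (hb ▸ (⟨hv.1.2, hv'.1.2⟩ : v ∈ fitIn N ⊓ fitIn N'))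
  have hCcard : Nat.card C = 1 + C0.ncard + ∑ N ∈ S, (Nat.card ↥(C ⊓ fitIn N) - 1) := by
    rw [← SetLike.coe_sort_coe, Nat.card_coe_set_eq, hCdec,
      Set.ncard_insert_of_notMem (by
        simp only [Set.mem_union, Set.mem_iUnion, exists_prop]
        rintro (h | ⟨N, -, h⟩)
        · exact hC01 h
        · exact h.2 rfl),
      Set.ncard_union_eq (by
        rw [Set.disjoint_iUnion₂_right]
        intro N hN
        rw [Set.disjoint_left]
        exact fun v hv hv' => hv.2 N hN hv'.1.2),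
      ncard_biUnion_finset hAdisj]
    · have : ∀ N ∈ S, (A N).ncard = Nat.card ↥(C ⊓ fitIn N) - 1 := fun N _ => by
        rw [hA]
        rw [Set.ncard_sdiff_singleton_of_mem (show (1 : G) ∈ (C : Set G) ∩ fitIn N from ⟨C.one_mem, (fitIn N).one_mem⟩),
          ← Subgroup.coe_inf, ← Nat.card_coe_set_eq]
        rfl
      rw [Finset.sum_congr rfl this]
      ring
  -- counting
  have hUcard : ∀ N ∈ S, (U N).ncard = N.index * (Nat.card ↥(fitIn N) - 1) := fun N hN => by
    rw [hU]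
    rw [ncard_conjugates N _ (hnormF N) (hTI N hN),
      Set.ncard_sdiff_singleton_of_mem (fitIn N).one_mem, ← Nat.card_coe_set_eq]
    rfl
  have hU0card : U0.ncard = C.index * C0.ncard := ncard_conjugates C _ hnorm0 hTI0
  have hbound : (∑ N ∈ S, (U N).ncard) + U0.ncard + 1 ≤ Nat.card G := by
    rw [← Nat.card_univ (α := G), Nat.card_coe_set_eq]
    have h1 : (1 : G) ∉ (⋃ N ∈ S, U N) ∪ U0 := by
      simp only [Set.mem_union, Set.mem_iUnion, exists_prop]
      rintro (⟨N, -, g, f, hf, he⟩ | ⟨g, f, hf, he⟩)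
      · exact hf.2 ((MulAut.conj g).injective (he.symm.trans (map_one _).symm))
      · have : f = 1 := (MulAut.conj g).injective (he.symm.trans (map_one _).symm)
        exact hC01 (this ▸ hf)
    refine le_of_eq_of_le ?_ (Set.ncard_le_ncard
      (Set.subset_univ (insert 1 ((⋃ N ∈ S, U N) ∪ U0))))
    rw [Set.ncard_insert_of_notMem h1, Set.ncard_union_eq hdisj0,
      ncard_biUnion_finset hdisjUU]
  -- `N = fitIn N * C`
  have hprod : ∀ N ∈ S, Nat.card N * Nat.card ↥(C ⊓ fitIn N) = Nat.card ↥(fitIn N) * Nat.card C := by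
    intro N hN
    obtain ⟨N', hN', hNN'⟩ := hother N hN
    obtain ⟨z, -, hzN⟩ := (hS N).1 hN
    obtain ⟨w, hwC, hwN'⟩ := (hS N').1 hN'
    have hnle : N ≤ Subgroup.normalizer (fitIn N : Set G) := by
      intro l hl
      rw [Subgroup.mem_normalizer_iff]
      have key : ∀ {l : G}, l ∈ N → ∀ f ∈ fitIn N, l * f * l⁻¹ ∈ fitIn N := by
        rintro l hl _ ⟨f, hf, rfl⟩
        exact ⟨⟨l, hl⟩ * f * ⟨l, hl⟩⁻¹, FittingCores.fitting_normal.conj_mem f hf _, rfl⟩
      intro f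
      refine ⟨key hl f, fun hf => ?_⟩
      have := key (N.inv_mem hl) _ hf
      have he : l⁻¹ * (l * f * l⁻¹) * l⁻¹⁻¹ = f := by group
      rwa [he] at this
    have hCle : C ≤ Subgroup.normalizer (fitIn N : Set G) := (hCN N hN).trans hnle
    have htop : fitIn N ⊔ C = N := by
      refine le_antisymm (sup_le (fitIn_le N) (hCN N hN)) ?_
      obtain ⟨s, hs, S', hwS, hw1, rfl⟩ := hwN'
      haveI := Fact.mk hs
      obtain ⟨j, hj⟩ := mem_isPGroup_orderOf S'.isPGroup' hwS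
      obtain ⟨n, hn⟩ := hc.nilq N (hc.own_ne_top hzN)
      have hn' : (⊤ : Subgroup ↥N).lowerCentralSeries n ≤ Cfsg.fittingSubgroup ↥N := by
        rw [← Subgroup.map_le_map_iff_of_injective N.subtype_injective,
          Subgroup.top_subtype_lowerCentralSeries]
        exact hn
      obtain ⟨Q, hQ⟩ := (IsPGroup.of_card (n := j) (by
        rw [Nat.card_zpowers, Subgroup.orderOf_mk, hj]) :
        IsPGroup s (Subgroup.zpowers (⟨w, hCN N hN hwC⟩ : N))).exists_le_sylow
      have hwQ : (⟨w, hCN N hN hwC⟩ : N) ∈ (Q : Subgroup N) := hQ (Subgroup.mem_zpowers _)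
      have hQS : (Q : Subgroup N).map N.subtype ≤ (S' : Subgroup G) := by
        obtain ⟨S'', hS''⟩ := (Q.isPGroup'.map N.subtype :
          IsPGroup s ((Q : Subgroup N).map N.subtype)).exists_le_sylow
        rwa [hc.ti s hs S'' S' w (hS'' ⟨_, hwQ, rfl⟩) hwS hw1] at hS''
      have hNC : ∀ l : N, l ∈ Subgroup.normalizer ((Q : Subgroup N) : Set N) → (l : G) ∈ C := by
        intro l hl
        rw [← hpair N hN _ hN' hNN']
        refine ⟨l.2, hc.mem_of_own_conj (x := w) ⟨s, hs, S', hwS, hw1, rfl⟩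
          ⟨s, hs, S', hQS ⟨_, (Subgroup.mem_normalizer_iff.1 hl _).1 hwQ, rfl⟩, ?_, rfl⟩⟩
        exact fun e => hw1 ((MulAut.conj (l : G)).injective (e.trans (map_one _).symm))
      haveI := normal_sup_sylow hn' Q
      have h1 := Sylow.normalizer_sup_eq_top' Q
        (le_sup_right : (Q : Subgroup N) ≤ Cfsg.fittingSubgroup ↥N ⊔ (Q : Subgroup N))
      intro l hl
      have hmem : (⟨l, hl⟩ : N) ∈ Subgroup.normalizer ((Q : Subgroup N) : Set N) ⊔
          (Cfsg.fittingSubgroup ↥N ⊔ (Q : Subgroup N)) := h1.ge (Subgroup.mem_top _)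
      have hle : Subgroup.normalizer ((Q : Subgroup N) : Set N) ⊔
          (Cfsg.fittingSubgroup ↥N ⊔ (Q : Subgroup N)) ≤ (fitIn N ⊔ C).comap N.subtype :=
        sup_le (fun m hm => Subgroup.mem_sup_right (hNC m hm))
          (sup_le (fun m hm => Subgroup.mem_sup_left ⟨m, hm, rfl⟩)
            (fun m hm => Subgroup.mem_sup_right (hNC m (Subgroup.le_normalizer hm))))
      exact hle hmem
    have := SolvBasic.card_sup_mul_card_inf (N := fitIn N) (H := C) hCle
    rw [htop, inf_comm] at this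
    exact this
  have hhalf : ∀ N ∈ S, 2 * Nat.card ↥(C ⊓ fitIn N) ≤ Nat.card ↥(fitIn N) := by
    intro N hN
    obtain ⟨N', hN', hNN'⟩ := hother N hN
    obtain ⟨z, hzC, hzN⟩ := (hS N).1 hN
    obtain ⟨k, hk⟩ := Subgroup.card_dvd_of_le (inf_le_right : C ⊓ fitIn N ≤ fitIn N)
    have hne2 : C ⊓ fitIn N ≠ fitIn N := by
      intro he
      obtain ⟨r, hr, R, hzR, hz1, hNR⟩ := hzN
      obtain ⟨x0, hx0, -, huniq⟩ := hc.ex r hr R (ne_bot_of_mem hzR hz1)
      have hx0F : x0 ∈ fitIn N := hNR ▸ mem_fitIn_of_pGroup hr Subgroup.le_normalizer R.isPGroup'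
        (fun g hg v hv => (Subgroup.mem_normalizer_iff.1 hg v).1 hv) hx0
      have hFC : x0 ∈ C := (he.ge hx0F).1
      obtain ⟨w, -, hwN'⟩ := (hS N').1 hN'
      have h2 : N' ≤ N := hNR ▸ huniq N' (hc.own_ne_top hwN') (hCN N' hN' hFC)
      obtain ⟨r', hr', R', hwR', hw1', hNR'⟩ := hwN'
      refine hNN' ?_
      rw [hNR']
      exact hc.maximal hr' (ne_bot_of_mem hwR' hw1')
        (hNR ▸ hc.normalizer_ne_top hr (ne_bot_of_mem hzR hz1)) (hNR' ▸ h2)
    rcases Nat.lt_or_ge k 2 with hk2 | hk2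
    · exfalso
      interval_cases k
      · rw [mul_zero] at hk
        exact Nat.card_pos.ne' hk
      · rw [mul_one] at hk
        exact hne2 (Subgroup.eq_of_le_of_card_ge inf_le_right hk.le)
    · rw [hk, mul_comm 2]; exact Nat.mul_le_mul_left _ hk2
  refine count_false S (fun N => (N.index : ℤ)) (fun N => (Nat.card ↥(fitIn N) : ℤ))
    (fun N => (Nat.card ↥(C ⊓ fitIn N) : ℤ)) (C.index : ℤ) (Nat.card C : ℤ) (C0.ncard : ℤ)
    hn ?_ ?_ ?_ ?_ ?_
  · intro N hN
    have h : N.index * Nat.card ↥(fitIn N) = C.index * Nat.card ↥(C ⊓ fitIn N) := by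
      have h1 := N.card_mul_index
      have h2 := C.card_mul_index
      have h3 := hprod N hN
      refine Nat.eq_of_mul_eq_mul_left (Nat.card_pos (α := C)) ?_
      calc Nat.card C * (N.index * Nat.card ↥(fitIn N))
          = (Nat.card ↥(fitIn N) * Nat.card C) * N.index := by ring
        _ = (Nat.card N * Nat.card ↥(C ⊓ fitIn N)) * N.index := by rw [h3]
        _ = (Nat.card N * N.index) * Nat.card ↥(C ⊓ fitIn N) := by ring
        _ = Nat.card C * (C.index * Nat.card ↥(C ⊓ fitIn N)) := by rw [h1, ← h2]; ring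
    show (N.index : ℤ) * (Nat.card ↥(fitIn N) : ℤ) = (C.index : ℤ) * (Nat.card ↥(C ⊓ fitIn N) : ℤ)
    exact_mod_cast h
  · intro N hN
    have h : 2 * N.index ≤ C.index := by
      have hcard : 2 * Nat.card C ≤ Nat.card N := by
        refine Nat.le_of_mul_le_mul_right ?_ (Nat.card_pos (α := ↥(C ⊓ fitIn N)))
        calc 2 * Nat.card C * Nat.card ↥(C ⊓ fitIn N)
            = Nat.card C * (2 * Nat.card ↥(C ⊓ fitIn N)) := by ring
          _ ≤ Nat.card C * Nat.card ↥(fitIn N) := Nat.mul_le_mul_left _ (hhalf N hN)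
          _ = Nat.card N * Nat.card ↥(C ⊓ fitIn N) := by rw [hprod N hN]; ring
      refine Nat.le_of_mul_le_mul_left ?_ (Nat.card_pos (α := C))
      calc Nat.card C * (2 * N.index) = 2 * Nat.card C * N.index := by ring
        _ ≤ Nat.card N * N.index := Nat.mul_le_mul_right _ hcard
        _ = Nat.card C * C.index := by rw [N.card_mul_index, C.card_mul_index]
    show (2 : ℤ) * (N.index : ℤ) ≤ (C.index : ℤ)
    exact_mod_cast h
  · exact_mod_cast Nat.pos_of_ne_zero (Subgroup.index_ne_zero_of_finite (H := C))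
  · rw [hCcard]
    push_cast
    congr 1
    refine Finset.sum_congr rfl fun N _ => ?_
    rw [Nat.cast_sub Nat.card_pos]
    simp
  · rw [Finset.sum_congr rfl hUcard, hU0card, ← C.card_mul_index, mul_comm (Nat.card C)] at hbound
    have h4 : ((∑ N ∈ S, N.index * (Nat.card ↥(fitIn N) - 1) + C.index * C0.ncard + 1 : ℕ) : ℤ) ≤
        ((C.index * Nat.card C : ℕ) : ℤ) := by exact_mod_cast hbound
    push_cast at h4
    refine le_of_eq_of_le ?_ h4
    congr 2
    refine Finset.sum_congr rfl fun N _ => ?_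
    rw [Nat.cast_sub Nat.card_pos]
    simp

end Config

end Cfsg.Agent.CommValues
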