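import Cfsg.Agent.Lib.CommValues.Count
import Cfsg.Agent.Lib.CN.Main

/-!
The configuration is impossible: it is a CN group, which is solvable if of odd order and has no
involutions otherwise.
-/

set_option autoImplicit false
set_option linter.style.haveILetI false
set_option linter.unusedSectionVars false

namespace Cfsg.Agent.CommValues

open scoped commutatorElement

universe u

variable {G : Type u} [Group G] [Finite G]

/-- A nilpotent group whose derived group contains a Sylow subgroup has trivial such Sylow. -/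
theorem sylow_eq_bot_of_le_commutator [Group.IsNilpotent G] {p : ℕ} [hp : Fact p.Prime]
    (P : Sylow p G) (h : (P : Subgroup G) ≤ ⁅(⊤ : Subgroup G), (⊤ : Subgroup G)⁆) :
    (P : Subgroup G) = ⊥ := by
  haveI : (Cfsg.pPrimeCore p G).Normal := FittingCores.pPrimeCore_normal p
  have htop : (⊤ : Subgroup G) ≤ Cfsg.pPrimeCore p G := by
    refine Fusion.le_of_le_commutator_sup_normal ⊤ _ ?_
    rw [← sylow_sup_pPrimeCore P]
    refine sup_le (le_sup_of_le_left ?_) le_sup_right
    rwa [sylow_sup_pPrimeCore P]
  obtain ⟨i, hi⟩ := IsPGroup.iff_card.1 P.isPGroup'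
  rw [← Subgroup.card_eq_one]
  refine Nat.eq_one_of_dvd_coprimes (a := Nat.card (Cfsg.pPrimeCore p G)) (b := p ^ i)
    ((FittingCores.pPrimeCore_coprime p).pow_right i) ?_ hi.dvd
  exact Subgroup.card_dvd_of_le (le_top.trans htop)

namespace Config

theorem contra (hc : Config G) : False := by
  classical
  haveI := hc.simple
  -- every centraliser lies in a Fitting subgroup
  have hCN : Cfsg.IsCNGroup G := by
    intro u hu
    obtain ⟨p, hp, hd⟩ := Nat.exists_prime_and_dvd (mt orderOf_eq_one_iff.1 hu)
    obtain ⟨m, hm⟩ := hd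
    have hm0 : m ≠ 0 := by rintro rfl; rw [mul_zero] at hm; exact (orderOf_pos u).ne' hm
    have ho : orderOf (u ^ m) = p := by
      rw [orderOf_pow' _ hm0, hm, Nat.gcd_eq_right (Dvd.intro_left p rfl),
        Nat.mul_div_cancel _ (Nat.pos_of_ne_zero hm0)]
    have hne : u ^ m ≠ 1 := by
      intro h; rw [h, orderOf_one] at ho; exact hp.ne_one ho.symm
    obtain ⟨M, hM⟩ := exists_own hne hp (i := 1) (by rw [ho, pow_one])
    have hle : Subgroup.centralizer ({u} : Set G) ≤ fitIn M := by
      intro g hg
      refine FiniteGroup.mem_of_primePow_mem _ g fun r hr w hw ⟨i, hi⟩ => ?_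
      by_cases hw1 : w = 1
      · rw [hw1]; exact one_mem _
      obtain ⟨M', hM'⟩ := exists_own hw1 hr hi
      have hwu : Commute w u :=
        Subgroup.mem_centralizer_singleton_iff.1 ((Subgroup.zpowers_le.2 hg) hw)
      rw [hc.own_eq_of_commute hM hM' (hwu.symm.pow_left m)]
      exact own_mem hM'
    haveI : Group.IsNilpotent ↥(fitIn M) := by
      haveI := FittingCores.fitting_nilpotent (G := ↥M)
      exact Group.nilpotent_of_surjective _ (M.subtype.subgroupMap_surjective _)
    exact Group.nilpotent_of_mulEquiv (Subgroup.subgroupOfEquivOfLe hle)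
  by_cases hodd : Odd (Nat.card G)
  · exact hc.nsol (CN.solvable (Nat.card G) G rfl hodd hCN)
  haveI : Fact (Nat.Prime 2) := ⟨Nat.prime_two⟩
  have h2 : 2 ∣ Nat.card G := even_iff_two_dvd.1 (Nat.not_odd_iff_even.1 hodd)
  obtain ⟨t, ht⟩ := exists_prime_orderOf_dvd_card' 2 h2
  obtain ⟨P, hP⟩ := (IsPGroup.of_card (n := 1) (by rw [Nat.card_zpowers, ht, pow_one]) :
    IsPGroup 2 (Subgroup.zpowers t)).exists_le_sylow
  have htP : t ∈ (P : Subgroup G) := hP (Subgroup.mem_zpowers t)
  have ht1 : t ≠ 1 := by intro h; rw [h, orderOf_one] at ht; norm_num at ht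
  set M := Subgroup.normalizer ((P : Subgroup G) : Set G) with hMdef
  have hMown : Own t M := ⟨2, Nat.prime_two, P, htP, ht1, rfl⟩
  have hP0 : (P : Subgroup G) ≠ ⊥ := ne_bot_of_mem htP ht1
  -- a prime power element outside the Fitting subgroup
  obtain ⟨e, heM, heF, r, hr, i, hei⟩ : ∃ e ∈ M, e ∉ fitIn M ∧
      ∃ r : ℕ, r.Prime ∧ ∃ i, orderOf e = r ^ i := by
    by_contra hcon
    push Not at hcon
    have hall : M ≤ fitIn M := fun g hg => FiniteGroup.mem_of_primePow_mem _ g
      fun r hr w hw ⟨i, hi⟩ => by
        by_contra hwF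
        exact hcon w ((Subgroup.zpowers_le.2 hg) hw) hwF r hr i hi
    haveI hMn : Group.IsNilpotent ↥M := by
      have htop : Cfsg.fittingSubgroup ↥M = ⊤ := by
        rw [eq_top_iff]
        intro z _
        obtain ⟨y, hy, hyz⟩ := hall z.2
        rwa [M.subtype_injective hyz] at hy
      haveI := FittingCores.fitting_nilpotent (G := ↥M)
      exact Group.isNilpotent_top.1 (htop ▸ inferInstance)
    have hbot := sylow_eq_bot_of_le_commutator (P.subtype Subgroup.le_normalizer : Sylow 2 ↥M) (by
      rw [Sylow.coe_subtype, ← Subgroup.map_le_map_iff_of_injective M.subtype_injective,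
        Subgroup.map_commutator, ← MonoidHom.range_eq_map, Subgroup.range_subtype,
        Subgroup.map_subgroupOf_eq_of_le Subgroup.le_normalizer]
      exact hc.der 2 Nat.prime_two P)
    rw [Sylow.coe_subtype, Subgroup.subgroupOf_eq_bot, disjoint_iff,
      inf_eq_left.2 Subgroup.le_normalizer] at hbot
    exact hP0 hbot
  have hPM : ∀ n ∈ (P : Subgroup G), e * n * e⁻¹ ∈ (P : Subgroup G) :=
    fun n hn => (Subgroup.mem_normalizer_iff.1 heM n).1 hn
  have he1 : e ≠ 1 := fun h => heF (h ▸ one_mem _)
  have hfix : ∀ n ∈ (P : Subgroup G), Commute n e → n = 1 := by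
    intro n hn hne
    by_contra hn1
    obtain ⟨M', hM'⟩ := exists_own he1 hr hei
    have := hc.own_eq_of_commute (M := M) ⟨2, Nat.prime_two, P, hn, hn1, rfl⟩ hM' hne
    exact heF (this ▸ own_mem hM')
  -- every element of `P` is an iterated commutator
  have hsurj : Function.Surjective (fun n : (P : Subgroup G) =>
      (⟨⁅(n : G), e⁆, by
        have := engel_mem hPM n.2 1
        rwa [engel_succ, engel_zero] at this⟩ : (P : Subgroup G))) := by
    refine Finite.surjective_of_injective fun a b hab => ?_
    have h : ⁅(a : G), e⁆ = ⁅(b : G), e⁆ := congrArg Subtype.val hab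
    rw [commutatorElement_def, commutatorElement_def] at h
    have h' : (a : G) * e * (a : G)⁻¹ = (b : G) * e * (b : G)⁻¹ := mul_right_cancel h
    have hcm : Commute ((b : G)⁻¹ * a) e := by
      change (b : G)⁻¹ * a * e = e * ((b : G)⁻¹ * a)
      have : (b : G)⁻¹ * a * e = (b : G)⁻¹ * ((a : G) * e * (a : G)⁻¹) * a := by group
      rw [this, h']
      group
    have := hfix _ ((P : Subgroup G).mul_mem ((P : Subgroup G).inv_mem b.2) a.2) hcm
    exact Subtype.ext (inv_mul_eq_one.1 this).symm
  have hsurj' : ∀ j, ∀ x ∈ (P : Subgroup G), ∃ n ∈ (P : Subgroup G), CommValues.engel e j n = x := by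
    intro j
    induction j with
    | zero => exact fun x hx => ⟨x, hx, rfl⟩
    | succ j ih =>
      intro x hx
      obtain ⟨n, hn⟩ := hsurj ⟨x, hx⟩
      obtain ⟨m, hm, hmn⟩ := ih n n.2
      exact ⟨m, hm, by rw [engel_succ, hmn]; exact congrArg Subtype.val hn⟩
  obtain ⟨k, hk⟩ := hc.engel
  obtain ⟨n, hn, hnt⟩ := hsurj' (k + 1) t htP
  have huniq := hk 2 Nat.prime_two P n hn e heM (by rw [hnt]; exact ht1)
  rw [hnt] at huniq
  -- two conjugate involutions generate a proper subgroup
  refine hc.normalizer_ne_top Nat.prime_two hP0 (eq_top_iff.2 fun g _ => ?_)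
  set t' := g * t * g⁻¹ with ht'
  set K := Subgroup.closure ({t, t'} : Set G) with hK
  have htt : t * t = 1 := by rw [← pow_two, ← ht]; exact pow_orderOf_eq_one t
  have ht't' : t' * t' = 1 := by
    rw [ht', show g * t * g⁻¹ * (g * t * g⁻¹) = g * (t * t) * g⁻¹ by group, htt]
    group
  have hKne : K ≠ ⊤ := by
    intro htop
    set D := Subgroup.zpowers (t * t') with hD
    have hnorm : Subgroup.normalizer (D : Set G) = ⊤ := by
      rw [eq_top_iff, ← htop, hK, Subgroup.closure_le]
      have hinv : (t * t')⁻¹ = t' * t := by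
        rw [mul_inv_rev, inv_eq_of_mul_eq_one_right htt, inv_eq_of_mul_eq_one_right ht't']
      have key : ∀ a : G, a * a = 1 → a * (t * t') * a⁻¹ = (t * t')⁻¹ →
          a ∈ Subgroup.normalizer (D : Set G) := by
        intro a haa hac
        rw [Subgroup.mem_normalizer_iff]
        have hmap : ∀ z ∈ D, a * z * a⁻¹ ∈ D := by
          rintro z hz
          obtain ⟨j, rfl⟩ := Subgroup.mem_zpowers_iff.1 hz
          rw [← conj_zpow, hac]
          exact Subgroup.zpow_mem _ (D.inv_mem (Subgroup.mem_zpowers _)) j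
        intro z
        refine ⟨hmap z, fun hz => ?_⟩
        have := hmap _ hz
        have he : a * (a * z * a⁻¹) * a⁻¹ = (a * a) * z * (a * a)⁻¹ := by group
        rw [he, haa] at this
        simpa using this
      rintro a (rfl | rfl)
      · refine key a htt ?_
        rw [hinv, inv_eq_of_mul_eq_one_right htt, show a * (a * t') * a = (a * a) * t' * a by group,
          htt, one_mul]
      · refine key t' ht't' ?_
        rw [hinv, inv_eq_of_mul_eq_one_right ht't', show t' * (t * t') * t' = t' * t * (t' * t')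
          by group, ht't', mul_one]
    have hDn := Subgroup.normalizer_eq_top_iff.1 hnorm
    rcases hDn.eq_bot_or_eq_top with h | h
    · have h1 : t * t' = 1 := Subgroup.mem_bot.1 (h ▸ Subgroup.mem_zpowers (t * t'))
      have hKt : K ≤ Subgroup.zpowers t := by
        rw [hK, Subgroup.closure_le]
        rintro a (rfl | rfl)
        · exact Subgroup.mem_zpowers a
        · rw [← inv_eq_of_mul_eq_one_right h1]
          exact inv_mem (Subgroup.mem_zpowers t)
      have hcyc : IsCyclic G := ⟨t, fun x => hKt (htop.ge (Subgroup.mem_top x))⟩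
      letI := hcyc.commGroup
      exact hc.nsol inferInstance
    · have hcyc : IsCyclic G := ⟨t * t', fun x => h.ge (Subgroup.mem_top x)⟩
      letI := hcyc.commGroup
      exact hc.nsol inferInstance
  have hKM : K ≤ M := huniq K hKne (Subgroup.subset_closure (Set.mem_insert _ _))
  have ht'M : t' ∈ M := hKM (Subgroup.subset_closure (Set.mem_insert_of_mem _ rfl))
  have ht'P : t' ∈ (P : Subgroup G) := by
    refine Subgroup.zpowers_le.1 ?_
    have ht'o : orderOf t' = 2 := by
      rw [ht', ← ht]; exact orderOf_injective (MulAut.conj g).toMonoidHom (MulAut.conj g).injective t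
    have hp : IsPGroup 2 (Subgroup.zpowers t') := IsPGroup.of_card (n := 1)
      (by rw [Nat.card_zpowers, ht'o, pow_one])
    rw [← P.is_maximal' (hp.to_sup_of_normal_right' P.isPGroup' (Subgroup.zpowers_le.2 ht'M))
      le_sup_right]
    exact le_sup_left
  exact hc.mem_of_own_conj hMown ⟨2, Nat.prime_two, P, ht'P,
    fun h => ht1 ((MulAut.conj g).injective (h.trans (map_one _).symm)), rfl⟩

end Config

end Cfsg.Agent.CommValues
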