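import Cfsg.Agent.Lib.CommValues.Final

/-!
A minimal insoluble group with the product-order condition gives the impossible configuration on
its central quotient.
-/

set_option autoImplicit false
set_option linter.style.haveILetI false
set_option linter.unusedSectionVars false

namespace Cfsg.Agent.CommValues

open scoped commutatorElement

universe u

/-- A minimal insoluble group with the condition. -/
structure Minimal (G : Type u) [Group G] (k : ℕ) : Prop where
  cond : Cond G k
  nsol : ¬ Group.IsSolvable G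
  sol : ∀ K : Subgroup G, K ≠ ⊤ → Group.IsSolvable K

variable {G : Type u} [Group G]

/-- The noncentral values which are `r`-elements. -/
def Sig (G : Type u) [Group G] (k r : ℕ) : Set G :=
  {x | x ∈ Val G k ∧ (∃ i, orderOf x = r ^ i) ∧ x ∉ Subgroup.center G}

theorem Sig.conj {k r : ℕ} {x : G} (g : G) (h : x ∈ Sig G k r) : g * x * g⁻¹ ∈ Sig G k r := by
  obtain ⟨h1, ⟨i, hi⟩, h3⟩ := h
  refine ⟨conj_mem g h1, ⟨i, (orderOf_injective (MulAut.conj g).toMonoidHom
    (MulAut.conj g).injective x).trans hi⟩, fun hc => h3 ?_⟩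
  have := (inferInstance : (Subgroup.center G).Normal).conj_mem _ hc g⁻¹
  have he : g⁻¹ * (g * x * g⁻¹) * g⁻¹⁻¹ = x := by group
  rwa [he] at this

/-- A central element which is a quotient of `r`-elements lies in every Sylow `r`-subgroup. -/
theorem center_mul_mem [Finite G] {r : ℕ} [hr : Fact r.Prime] {z a b : G}
    (hz : z ∈ Subgroup.center G) (hab : b = a * z) (ha : ∃ i, orderOf a = r ^ i)
    (hb : ∃ i, orderOf b = r ^ i) (Q : Sylow r G) : z ∈ (Q : Subgroup G) := by
  obtain ⟨i, hi⟩ := ha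
  obtain ⟨j, hj⟩ := hb
  have hzc : ∀ g : G, g * z = z * g := Subgroup.mem_center_iff.1 hz
  have hza : Commute a z := hzc a
  have hzr : z ^ r ^ (i + j) = 1 := by
    have h1 : b ^ r ^ (i + j) = 1 := orderOf_dvd_iff_pow_eq_one.1 (hj ▸ pow_dvd_pow r (by omega))
    have h2 : a ^ r ^ (i + j) = 1 := orderOf_dvd_iff_pow_eq_one.1 (hi ▸ pow_dvd_pow r (by omega))
    rwa [hab, hza.mul_pow, h2, one_mul] at h1
  obtain ⟨l, -, hl⟩ := (Nat.dvd_prime_pow hr.out).1 (orderOf_dvd_of_pow_eq_one hzr)
  haveI : (Subgroup.zpowers z).Normal := ⟨fun n hn g => by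
    obtain ⟨m, rfl⟩ := Subgroup.mem_zpowers_iff.1 hn
    rw [← conj_zpow, hzc g, mul_inv_cancel_right]
    exact Subgroup.zpow_mem _ (Subgroup.mem_zpowers z) m⟩
  exact (IsPGroup.of_card (n := l) (by rw [Nat.card_zpowers, hl]) :
    IsPGroup r (Subgroup.zpowers z)).le_sylow_of_normal Q (Subgroup.mem_zpowers z)

namespace Minimal

variable [Finite G] {k : ℕ} (hm : Minimal G k)

include hm

theorem perfect : commutator G = ⊤ := by
  by_contra h
  haveI := hm.sol _ h
  exact hm.nsol ((Group.isSolvable_iff_subgroup_quotient (commutator G)).mpr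
    ⟨inferInstance, (inferInstance : Group.IsSolvable (Abelianization G))⟩)

/-- A proper normal subgroup is central. -/
theorem le_center {N : Subgroup G} [N.Normal] (hN : N ≠ ⊤) : N ≤ Subgroup.center G := by
  haveI := hm.sol N hN
  have hO : ∀ p : ℕ, p.Prime → (Cfsg.pCore p N).map N.subtype ≤ Subgroup.center G := by
    intro p hp
    set O := (Cfsg.pCore p N).map N.subtype with hOd
    haveI : O.Normal := FittingCores.normal_map_of_characteristic inferInstance
      (FittingCores.pCore_characteristic p)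
    have hOp : IsPGroup p O := (FittingCores.pCore_isPGroup p).map _
    rw [← Subgroup.centralizer_univ, ← Subgroup.coe_top, Subgroup.le_centralizer_iff]
    by_contra hne
    have htop : Subgroup.centralizer (O : Set G) ≠ ⊤ := fun h => hne (h ▸ le_rfl)
    set C := Subgroup.centralizer (O : Set G) with hC
    haveI := hm.sol C htop
    have hperf : commutator (G ⧸ C) = ⊤ := by
      rw [← top_le_iff, commutator_def, ← Subgroup.map_top_of_surjective _
        (QuotientGroup.mk'_surjective C), ← Subgroup.map_commutator, ← commutator_def, hm.perfect]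
    have hnd : ∀ r : ℕ, r.Prime → r ≠ p → ¬ r ∣ Nat.card (G ⧸ C) := by
      intro r hr hrp
      haveI := Fact.mk hr
      obtain ⟨P, N', hN', hc⟩ := hasNormalPComplement_of_val_ker (k := k) (r := r)
        (QuotientGroup.mk'_surjective C) (fun x hx ⟨i, hi⟩ => (QuotientGroup.eq_one_iff x).2
          fun m hm' => (hm.cond.commute hx (fun a ha => (inferInstance : O.Normal).conj_mem a ha x)
            (coprime_pow_orderOf hp hOp (not_dvd_of_primePow hp hr (Ne.symm hrp) hi)) hm').eq)
      haveI := hN'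
      obtain ⟨n, hn⟩ := exists_lcs_le_of_complement hc
      have hall : ∀ n, (⊤ : Subgroup (G ⧸ C)).lowerCentralSeries n = ⊤ := by
        intro n
        induction n with
        | zero => rfl
        | succ n ih => rw [Subgroup.lowerCentralSeries_succ, ih, ← commutator_def, hperf]
      rw [hall, top_le_iff] at hn
      have h1 := hc.index_eq_card
      rw [hn, Subgroup.card_top] at h1
      rw [← h1]
      exact P.not_dvd_index
    haveI := Fact.mk hp
    have hpq : IsPGroup p (G ⧸ C) :=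
      IsPGroup.of_card
        (Nat.eq_prime_pow_of_unique_prime_dvd Nat.card_pos.ne' fun {r} hr hd => by
          by_contra h; exact hnd r hr h hd)
    haveI := hpq.isNilpotent
    exact hm.nsol ((Group.isSolvable_iff_subgroup_quotient C).mpr
      ⟨inferInstance, inferInstance⟩)
  have hF : (Cfsg.fittingSubgroup N).map N.subtype ≤ Subgroup.center G := by
    rw [FittingCores.fitting_eq_iSup_pCore, Subgroup.map_iSup]
    exact iSup_le fun p => hO p p.2
  refine le_trans ?_ hF
  intro x hx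
  refine ⟨⟨x, hx⟩, FittingCores.centralizer_fitting_le fun y hy => Subtype.ext ?_, rfl⟩
  exact ((Subgroup.mem_center_iff.1 (hF ⟨y, hy, rfl⟩)) x).symm

theorem center_ne_top : Subgroup.center G ≠ ⊤ := by
  intro h
  exact hm.nsol (Group.isSolvable_of_comm fun a b =>
    (Subgroup.mem_center_iff.1 (h.ge (Subgroup.mem_top b)) a))

theorem nsol_quotient : ¬ Group.IsSolvable (G ⧸ Subgroup.center G) := fun h =>
  hm.nsol ((Group.isSolvable_iff_subgroup_quotient (Subgroup.center G)).mpr
    ⟨Group.isSolvable_of_comm fun a b => Subtype.ext ((Subgroup.mem_center_iff.1 b.2) a), h⟩)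

theorem simple : IsSimpleGroup (G ⧸ Subgroup.center G) := by
  haveI : Nontrivial (G ⧸ Subgroup.center G) :=
    QuotientGroup.nontrivial_iff.2 hm.center_ne_top
  refine ⟨fun K hK => ?_⟩
  by_cases h : K.comap (QuotientGroup.mk' (Subgroup.center G)) = ⊤
  · right
    rw [← Subgroup.map_comap_eq_self_of_surjective (QuotientGroup.mk'_surjective _) K, h,
      Subgroup.map_top_of_surjective _ (QuotientGroup.mk'_surjective _)]
  · left
    rw [← Subgroup.map_comap_eq_self_of_surjective (QuotientGroup.mk'_surjective _) K,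
      Subgroup.map_eq_bot_iff, QuotientGroup.ker_mk']
    haveI := hK.comap (QuotientGroup.mk' (Subgroup.center G))
    exact hm.le_center h

/-- For primes dividing the central index there are noncentral values. -/
theorem sig_nonempty {r : ℕ} [Fact r.Prime] (hr : r ∣ Nat.card (G ⧸ Subgroup.center G)) :
    ∃ x, x ∈ Sig G k r := by
  by_contra h
  push Not at h
  obtain ⟨P, N, hN, hc⟩ := hasNormalPComplement_of_val_ker (k := k) (r := r)
    (QuotientGroup.mk'_surjective (Subgroup.center G)) (fun x hx hi => by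
      by_contra hne
      exact h x ⟨hx, hi, fun hc => hne ((QuotientGroup.eq_one_iff x).2 hc)⟩)
  haveI := hN
  haveI := hm.simple
  rcases hN.eq_bot_or_eq_top with hb | ht
  · have h1 : (P : Subgroup (G ⧸ Subgroup.center G)) = ⊤ := by
      rw [hb] at hc; exact Subgroup.isComplement'_bot_left.1 hc
    haveI : Group.IsNilpotent (G ⧸ Subgroup.center G) :=
      (P.isPGroup'.of_equiv ((MulEquiv.subgroupCongr h1).trans Subgroup.topEquiv)).isNilpotent
    exact hm.nsol_quotient inferInstance
  · have h1 := hc.index_eq_card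
    rw [ht, Subgroup.card_top] at h1
    rw [← h1] at hr
    exact P.not_dvd_index hr

/-- The noncentral values in a proper subgroup lie in a Sylow subgroup together. -/
theorem sig_le_sylow {r : ℕ} [hr : Fact r.Prime] {K : Subgroup G} (hK : K ≠ ⊤) :
    ∃ R : Sylow r G, ∀ x ∈ Sig G k r, x ∈ K → x ∈ (R : Subgroup G) := by
  haveI := hm.sol K hK
  obtain ⟨R, hR⟩ := ((FittingCores.pCore_isPGroup r).map K.subtype :
    IsPGroup r ((Cfsg.pCore r K).map K.subtype)).exists_le_sylow
  refine ⟨R, fun x ⟨hx, ⟨i, hi⟩, _⟩ hxK => hR ⟨⟨x, hxK⟩, ?_, rfl⟩⟩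
  exact hm.cond.mem_pCore_of_injective (ι := K.subtype) K.subtype_injective hr.out hx
    (by rw [Subgroup.orderOf_mk]; exact hi)

/-- Sylow subgroups sharing a noncentral value have the same noncentral values. -/
theorem sig_inter {r : ℕ} [hr : Fact r.Prime] (P Q : Sylow r G) {x : G} (hx : x ∈ Sig G k r)
    (hxP : x ∈ (P : Subgroup G)) (hxQ : x ∈ (Q : Subgroup G)) :
    Sig G k r ∩ (P : Subgroup G) = Sig G k r ∩ (Q : Subgroup G) := by
  by_contra hne
  have hcard : ∀ A B : Sylow r G, (Sig G k r ∩ (A : Subgroup G)).ncard =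
      (Sig G k r ∩ (B : Subgroup G)).ncard := by
    suffices key : ∀ A B : Sylow r G, (Sig G k r ∩ (A : Subgroup G)).ncard ≤
        (Sig G k r ∩ (B : Subgroup G)).ncard from fun A B => le_antisymm (key A B) (key B A)
    intro A B
    obtain ⟨g, hg⟩ := MulAction.exists_smul_eq G A B
    refine Set.ncard_le_ncard_of_injOn (fun a => g * a * g⁻¹) ?_ ?_ (Set.toFinite _)
    · rintro a ⟨ha, haA⟩
      refine ⟨Sig.conj g ha, ?_⟩
      rw [SetLike.mem_coe, ← hg, Sylow.coe_subgroup_smul]
      exact ⟨a, haA, rfl⟩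
    · intro a _ b _ h
      exact (MulAut.conj g).injective h
  set Pairs : Set (Sylow r G × Sylow r G) := {pq |
    (Sig G k r ∩ ((pq.1 : Subgroup G) : Set G) ∩ (pq.2 : Subgroup G)).Nonempty ∧
      Sig G k r ∩ (pq.1 : Subgroup G) ≠ Sig G k r ∩ (pq.2 : Subgroup G)} with hPairs
  obtain ⟨⟨A, B⟩, ⟨hAB0, hABne⟩, hmax⟩ := Set.exists_max_image Pairs
    (fun pq => (Sig G k r ∩ ((pq.1 : Subgroup G) : Set G) ∩ (pq.2 : Subgroup G)).ncard)
    (Set.toFinite _) ⟨(P, Q), ⟨x, ⟨hx, hxP⟩, hxQ⟩, hne⟩
  simp only at hAB0 hABne hmax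
  set T := Sig G k r ∩ ((A : Subgroup G) : Set G) ∩ (B : Subgroup G) with hT
  set D := Subgroup.closure T with hD
  obtain ⟨t0, ht0⟩ := hAB0
  have hDne : Subgroup.normalizer (D : Set G) ≠ ⊤ := by
    intro h
    haveI := Subgroup.normalizer_eq_top_iff.1 h
    have hDA : D ≤ (A : Subgroup G) := (Subgroup.closure_le _).2 fun a ha => ha.1.2
    refine ht0.1.1.2.2 (hm.le_center (N := D) ?_ (Subgroup.subset_closure ht0))
    intro hDt
    haveI : Group.IsNilpotent G := (A.isPGroup'.of_equiv ((MulEquiv.subgroupCongr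
      (top_le_iff.1 (hDt.ge.trans hDA))).trans Subgroup.topEquiv)).isNilpotent
    exact hm.nsol inferInstance
  have key : ∀ P Q : Sylow r G, Sig G k r ∩ (P : Subgroup G) ≠ Sig G k r ∩ (Q : Subgroup G) →
      T = Sig G k r ∩ ((P : Subgroup G) : Set G) ∩ (Q : Subgroup G) →
      ∃ a ∈ Sig G k r, a ∈ (P : Subgroup G) ∧ a ∉ T ∧ a ∈ Subgroup.normalizer (D : Set G) := by
    intro P Q hPQ hTPQ
    have hDQ : D ≤ (Q : Subgroup G) := (Subgroup.closure_le _).2 fun a ha => (hTPQ ▸ ha).2
    have hDP : D ≤ (P : Subgroup G) := (Subgroup.closure_le _).2 fun a ha => (hTPQ ▸ ha).1.2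
    obtain ⟨b, hb, hbT⟩ : ∃ b ∈ Sig G k r ∩ ((P : Subgroup G) : Set G), b ∉ T := by
      by_contra h
      push Not at h
      exact hPQ (Set.eq_of_subset_of_ncard_le (fun a ha => ⟨ha.1, (hTPQ ▸ h a ha).2⟩)
        (hcard Q P).le (Set.toFinite _))
    set N1 := (P : Subgroup G) ⊓ Subgroup.normalizer (D : Set G) with hN1
    by_cases hN1P : N1 = (P : Subgroup G)
    · exact ⟨b, hb.1, hb.2, hbT, (hN1P.ge hb.2).2⟩
    have hlt := Fusion.lt_inf_normalizer (Fusion.sylow_isNilpotent P)
      (lt_of_le_of_ne inf_le_left hN1P)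
    obtain ⟨w, hw, hwN1⟩ := SetLike.exists_of_lt hlt
    have hwD : w ∉ Subgroup.normalizer (D : Set G) := fun h => hwN1 ⟨hw.1, h⟩
    obtain ⟨t, ht, htD⟩ : ∃ t ∈ T, w * t * w⁻¹ ∉ D := by
      by_contra h
      push Not at h
      have hle : D.map (MulAut.conj w).toMonoidHom ≤ D := by
        rw [hD, MonoidHom.map_closure, Subgroup.closure_le]
        rintro _ ⟨z, hz, rfl⟩
        exact h z hz
      have heq := Subgroup.eq_of_le_of_card_ge hle (by
        rw [Subgroup.card_map_of_injective (MulAut.conj w).injective])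
      refine hwD ?_
      rw [Subgroup.mem_normalizer_iff]
      intro z
      constructor
      · exact fun hz => heq ▸ ⟨z, hz, rfl⟩
      · intro hz
        rw [← heq] at hz
        obtain ⟨y, hy, hyz⟩ := hz
        rwa [(MulAut.conj w).injective (hyz : MulAut.conj w y = MulAut.conj w z)] at hy
    have htN1 : t ∈ N1 := ⟨hDP (Subgroup.subset_closure ht),
      Subgroup.le_normalizer (Subgroup.subset_closure ht)⟩
    have hwt : w * t * w⁻¹ ∈ N1 := (Subgroup.mem_normalizer_iff.1 hw.2 t).1 htN1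
    exact ⟨_, Sig.conj w (hTPQ ▸ ht).1.1, hwt.1, fun h => htD (Subgroup.subset_closure h), hwt.2⟩
  obtain ⟨a, ha, haA, haT, haN⟩ := key A B hABne rfl
  obtain ⟨b, hb, hbB, hbT, hbN⟩ := key B A (Ne.symm hABne) (by
    rw [hT, Set.inter_assoc, Set.inter_assoc, Set.inter_comm ((A : Subgroup G) : Set G)])
  obtain ⟨R, hR⟩ := hm.sig_le_sylow (r := r) hDne
  have hTR : ∀ c ∈ T, c ∈ (R : Subgroup G) := fun c hc =>
    hR c hc.1.1 (Subgroup.le_normalizer (Subgroup.subset_closure hc))
  have hAR : Sig G k r ∩ (A : Subgroup G) = Sig G k r ∩ (R : Subgroup G) := by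
    by_contra hc
    have h1 := hmax (A, R) ⟨⟨t0, ⟨ht0.1, hTR t0 ht0⟩⟩, hc⟩
    simp only at h1
    have hsub : T ⊆ Sig G k r ∩ ((A : Subgroup G) : Set G) ∩ (R : Subgroup G) :=
      fun c hc' => ⟨hc'.1, hTR c hc'⟩
    refine absurd (Set.ncard_lt_ncard (ssubset_of_subset_of_ne hsub (fun h => haT ?_))
      (Set.toFinite _)) (not_lt.2 h1)
    exact h.symm ▸ (⟨⟨ha, haA⟩, hR a ha haN⟩ :
      a ∈ Sig G k r ∩ ((A : Subgroup G) : Set G) ∩ (R : Subgroup G))
  have hBR : Sig G k r ∩ (B : Subgroup G) = Sig G k r ∩ (R : Subgroup G) := by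
    by_contra hc
    have h1 := hmax (B, R) ⟨⟨t0, ⟨⟨ht0.1.1, ht0.2⟩, hTR t0 ht0⟩⟩, hc⟩
    simp only at h1
    have hsub : T ⊆ Sig G k r ∩ ((B : Subgroup G) : Set G) ∩ (R : Subgroup G) :=
      fun c hc' => ⟨⟨hc'.1.1, hc'.2⟩, hTR c hc'⟩
    refine absurd (Set.ncard_lt_ncard (ssubset_of_subset_of_ne hsub (fun h => hbT ?_))
      (Set.toFinite _)) (not_lt.2 h1)
    exact h.symm ▸ (⟨⟨hb, hbB⟩, hR b hb hbN⟩ :
      b ∈ Sig G k r ∩ ((B : Subgroup G) : Set G) ∩ (R : Subgroup G))
  exact hABne (hAR.trans hBR.symm)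

omit hm in
/-- The normaliser of the noncentral values in a Sylow subgroup. -/
def owner (k : ℕ) {r : ℕ} (P : Sylow r G) : Subgroup G :=
  Subgroup.normalizer (Subgroup.closure (Sig G k r ∩ (P : Subgroup G)) : Set G)

theorem sylow_le_owner {r : ℕ} (P : Sylow r G) :
    Subgroup.normalizer ((P : Subgroup G) : Set G) ≤ owner k P := by
  intro g hg
  have key : ∀ {g : G}, g ∈ Subgroup.normalizer ((P : Subgroup G) : Set G) →
      ∀ z ∈ Subgroup.closure (Sig G k r ∩ (P : Subgroup G)),
        g * z * g⁻¹ ∈ Subgroup.closure (Sig G k r ∩ (P : Subgroup G)) := by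
    intro g hg z hz
    have hle : (Subgroup.closure (Sig G k r ∩ (P : Subgroup G))).map (MulAut.conj g).toMonoidHom
        ≤ Subgroup.closure (Sig G k r ∩ (P : Subgroup G)) := by
      rw [MonoidHom.map_closure]
      refine Subgroup.closure_mono ?_
      rintro _ ⟨w, ⟨hw1, hw2⟩, rfl⟩
      exact ⟨Sig.conj g hw1, (Subgroup.mem_normalizer_iff.1 hg w).1 hw2⟩
    exact hle ⟨z, hz, rfl⟩
  rw [owner, Subgroup.mem_normalizer_iff]
  intro z
  refine ⟨key hg z, fun hz => ?_⟩
  have := key (inv_mem hg) _ hz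
  have he : g⁻¹ * (g * z * g⁻¹) * g⁻¹⁻¹ = z := by group
  rwa [he] at this

theorem owner_ne_top {r : ℕ} [Fact r.Prime] (P : Sylow r G) {x : G} (hx : x ∈ Sig G k r)
    (hxP : x ∈ (P : Subgroup G)) : owner k P ≠ ⊤ := by
  intro h
  haveI := Subgroup.normalizer_eq_top_iff.1 h
  have hle : Subgroup.closure (Sig G k r ∩ (P : Subgroup G)) ≤ (P : Subgroup G) :=
    (Subgroup.closure_le _).2 fun a ha => ha.2
  refine hx.2.2 (hm.le_center (N := Subgroup.closure (Sig G k r ∩ (P : Subgroup G))) ?_
    (Subgroup.subset_closure ⟨hx, hxP⟩))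
  intro ht
  haveI : Group.IsNilpotent G := (P.isPGroup'.of_equiv ((MulEquiv.subgroupCongr
    (top_le_iff.1 (ht.ge.trans hle))).trans Subgroup.topEquiv)).isNilpotent
  exact hm.nsol inferInstance

/-- Proper subgroups containing a noncentral value lie in its owner. -/
theorem le_owner {r : ℕ} [Fact r.Prime] (P : Sylow r G) {x : G} (hx : x ∈ Sig G k r)
    (hxP : x ∈ (P : Subgroup G)) {K : Subgroup G} (hK : K ≠ ⊤) (hxK : x ∈ K) :
    K ≤ owner k P := by
  obtain ⟨R, hR⟩ := hm.sig_le_sylow (r := r) hK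
  have hPR := hm.sig_inter P R hx hxP (hR x hx hxK)
  have key : ∀ g ∈ K, ∀ z ∈ Subgroup.closure (Sig G k r ∩ (P : Subgroup G)),
      g * z * g⁻¹ ∈ Subgroup.closure (Sig G k r ∩ (P : Subgroup G)) := by
    intro g hg z hz
    have hgx : g * x * g⁻¹ ∈ Sig G k r := Sig.conj g hx
    have hgxP : g * x * g⁻¹ ∈ (P : Subgroup G) :=
      (hPR.ge ⟨hgx, hR _ hgx (K.mul_mem (K.mul_mem hg hxK) (K.inv_mem hg))⟩).2
    have hgxQ : g * x * g⁻¹ ∈ ((g • P : Sylow r G) : Subgroup G) := by
      rw [Sylow.coe_subgroup_smul]; exact ⟨x, hxP, rfl⟩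
    have heq := hm.sig_inter (g • P) P hgx hgxQ hgxP
    have hle : (Subgroup.closure (Sig G k r ∩ (P : Subgroup G))).map (MulAut.conj g).toMonoidHom
        ≤ Subgroup.closure (Sig G k r ∩ (P : Subgroup G)) := by
      rw [MonoidHom.map_closure]
      refine Subgroup.closure_mono ?_
      rintro _ ⟨w, ⟨hw1, hw2⟩, rfl⟩
      refine heq.le ⟨Sig.conj g hw1, ?_⟩
      rw [SetLike.mem_coe, Sylow.coe_subgroup_smul]
      exact ⟨w, hw2, rfl⟩
    exact hle ⟨z, hz, rfl⟩
  intro g hg
  rw [owner, Subgroup.mem_normalizer_iff]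
  intro z
  refine ⟨key g hg z, fun hz => ?_⟩
  have := key g⁻¹ (K.inv_mem hg) _ hz
  have he : g⁻¹ * (g * z * g⁻¹) * g⁻¹⁻¹ = z := by group
  rwa [he] at this

/-- For a noncentral Sylow subgroup there is a noncentral value central modulo the center. -/
theorem exists_special {r : ℕ} [hr : Fact r.Prime] (P : Sylow r G)
    (hP : ¬ (P : Subgroup G) ≤ Subgroup.center G) :
    ∃ s ∈ Sig G k r, s ∈ (P : Subgroup G) ∧ ∀ g ∈ (P : Subgroup G), ⁅s, g⁆ ∈ Subgroup.center G := by
  have hdvd : r ∣ Nat.card (G ⧸ Subgroup.center G) := by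
    obtain ⟨x, hxP, hxc⟩ := SetLike.not_le_iff_exists.1 hP
    obtain ⟨i, hi⟩ := mem_isPGroup_orderOf P.isPGroup' hxP
    obtain ⟨j, -, hj⟩ := (Nat.dvd_prime_pow hr.out).1
      (hi ▸ orderOf_map_dvd (QuotientGroup.mk' (Subgroup.center G)) x)
    rcases Nat.eq_zero_or_pos j with rfl | hj0
    · exact absurd ((QuotientGroup.eq_one_iff x).1 (orderOf_eq_one_iff.1 (hj.trans (pow_zero r)))) hxc
    · exact (dvd_pow_self r hj0.ne').trans (hj ▸ orderOf_dvd_natCard _)
  obtain ⟨y, hy⟩ := hm.sig_nonempty hdvd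
  obtain ⟨a0, ha0, ha0P⟩ : ∃ a ∈ Sig G k r, a ∈ (P : Subgroup G) := by
    obtain ⟨i, hi⟩ := hy.2.1
    obtain ⟨Q, hQ⟩ := (IsPGroup.of_card (n := i) (by rw [Nat.card_zpowers, hi]) :
      IsPGroup r (Subgroup.zpowers y)).exists_le_sylow
    obtain ⟨g, hg⟩ := MulAction.exists_smul_eq G Q P
    refine ⟨g * y * g⁻¹, Sig.conj g hy, ?_⟩
    rw [← hg, Sylow.coe_subgroup_smul]
    exact ⟨y, hQ (Subgroup.mem_zpowers y), rfl⟩
  by_contra hcon
  push Not at hcon
  have hseq : ∀ i, ∃ a ∈ Sig G k r, a ∈ (P : Subgroup G).lowerCentralSeries i := by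
    intro i
    induction i with
    | zero => exact ⟨a0, ha0, ha0P⟩
    | succ i ih =>
      obtain ⟨a, ha, hai⟩ := ih
      have haP : a ∈ (P : Subgroup G) := Subgroup.lowerCentralSeries_le_self _ i hai
      obtain ⟨g, hg, hag⟩ := hcon a ha haP
      refine ⟨⁅a, g⁆, ⟨comm_mem g ha.1, ?_, hag⟩, ?_⟩
      · refine mem_isPGroup_orderOf P.isPGroup' ?_
        rw [commutatorElement_def]
        exact mul_mem (mul_mem (mul_mem haP hg) (inv_mem haP)) (inv_mem hg)
      · rw [Subgroup.lowerCentralSeries_succ]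
        exact Subgroup.commutator_mem_commutator hai hg
  obtain ⟨n, hn⟩ := (Subgroup.isNilpotent_iff_lowerCentralSeries _).1
    (Fusion.sylow_isNilpotent P)
  obtain ⟨a, ha, han⟩ := hseq n
  rw [hn, Subgroup.mem_bot] at han
  exact ha.2.2 (han ▸ one_mem _)

theorem not_le_center {r : ℕ} {P : Sylow r G} {u : G} (hu : u ∈ (P : Subgroup G))
    (huc : u ∉ Subgroup.center G) : ¬ (P : Subgroup G) ≤ Subgroup.center G := fun h => huc (h hu)

/-- Sylow subgroups meeting outside the center have the same owner. -/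
theorem owner_eq {r : ℕ} [Fact r.Prime] (P Q : Sylow r G) {u : G} (huP : u ∈ (P : Subgroup G))
    (huQ : u ∈ (Q : Subgroup G)) (huc : u ∉ Subgroup.center G) : owner k P = owner k Q := by
  obtain ⟨s, hs, hsP, hsc⟩ := hm.exists_special P (hm.not_le_center huP huc)
  obtain ⟨s', hs', hs'Q, hs'c⟩ := hm.exists_special Q (hm.not_le_center huQ huc)
  set f := QuotientGroup.mk' (Subgroup.center G) with hf
  set K := (Subgroup.centralizer ({f u} : Set (G ⧸ Subgroup.center G))).comap f with hKd
  have hK : K ≠ ⊤ := by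
    intro h
    haveI := hm.simple
    have hz : f u ∈ Subgroup.center (G ⧸ Subgroup.center G) := by
      rw [Subgroup.mem_center_iff]
      intro q
      obtain ⟨g, rfl⟩ := QuotientGroup.mk'_surjective _ q
      exact Subgroup.mem_centralizer_singleton_iff.1
        (h.ge (Subgroup.mem_top g) : f g ∈ Subgroup.centralizer {f u})
    rcases (inferInstance : (Subgroup.center (G ⧸ Subgroup.center G)).Normal).eq_bot_or_eq_top with
      hb | ht
    · exact huc ((QuotientGroup.eq_one_iff u).1 (Subgroup.mem_bot.1 (hb ▸ hz)))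
    · exact hm.nsol_quotient (Group.isSolvable_of_comm fun a b =>
        (Subgroup.mem_center_iff.1 (ht.ge (Subgroup.mem_top b)) a))
  have hmem : ∀ {s : G}, ⁅s, u⁆ ∈ Subgroup.center G → s ∈ K := by
    intro s h
    rw [hKd, Subgroup.mem_comap, Subgroup.mem_centralizer_singleton_iff,
      ← commutatorElement_eq_one_iff_mul_comm, ← map_commutatorElement]
    exact (QuotientGroup.eq_one_iff _).2 h
  have hsK := hmem (hsc u huP)
  have hs'K := hmem (hs'c u huQ)
  have h1 : s' ∈ owner k P := hm.le_owner P hs hsP hK hsK hs'K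
  have h2 : s ∈ owner k Q := hm.le_owner Q hs' hs'Q hK hs'K hsK
  exact le_antisymm (hm.le_owner Q hs' hs'Q (hm.owner_ne_top P hs hsP) h1)
    (hm.le_owner P hs hsP (hm.owner_ne_top Q hs' hs'Q) h2)

/-- The owner controls fusion outside the center. -/
theorem mem_owner_of_conj {r : ℕ} [Fact r.Prime] (P : Sylow r G) {u g : G}
    (hu : u ∈ (P : Subgroup G)) (huc : u ∉ Subgroup.center G)
    (hgu : g * u * g⁻¹ ∈ (P : Subgroup G)) : g ∈ owner k P := by
  obtain ⟨s, hs, hsP, -⟩ := hm.exists_special P (hm.not_le_center hu huc)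
  have hgu' : g * u * g⁻¹ ∈ ((g • P : Sylow r G) : Subgroup G) := by
    rw [Sylow.coe_subgroup_smul]; exact ⟨u, hu, rfl⟩
  have hguc : g * u * g⁻¹ ∉ Subgroup.center G := by
    intro hc
    have := (inferInstance : (Subgroup.center G).Normal).conj_mem _ hc g⁻¹
    have he : g⁻¹ * (g * u * g⁻¹) * g⁻¹⁻¹ = u := by group
    rw [he] at this
    exact huc this
  have heq := hm.owner_eq P (g • P) hgu hgu' hguc
  -- `g` normalises the owner
  have hW : (Subgroup.closure (Sig G k r ∩ (P : Subgroup G))).map (MulAut.conj g).toMonoidHom =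
      Subgroup.closure (Sig G k r ∩ ((g • P : Sylow r G) : Subgroup G)) := by
    rw [MonoidHom.map_closure]
    congr 1
    ext w
    constructor
    · rintro ⟨v, ⟨hv1, hv2⟩, rfl⟩
      refine ⟨Sig.conj g hv1, ?_⟩
      rw [SetLike.mem_coe, Sylow.coe_subgroup_smul]
      exact ⟨v, hv2, rfl⟩
    · rintro ⟨hw1, hw2⟩
      rw [SetLike.mem_coe, Sylow.coe_subgroup_smul] at hw2
      obtain ⟨v, hv, rfl⟩ := hw2
      refine ⟨v, ⟨?_, hv⟩, rfl⟩
      have := Sig.conj g⁻¹ (x := g * v * g⁻¹) hw1
      have he : g⁻¹ * (g * v * g⁻¹) * g⁻¹⁻¹ = v := by group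
      rwa [he] at this
  have hnorm : g ∈ Subgroup.normalizer (owner k P : Set G) := by
    have h : (owner k P).map (MulAut.conj g).toMonoidHom = owner k P := by
      conv_rhs => rw [heq, owner, ← hW]
      exact Subgroup.map_equiv_normalizer_eq _ (MulAut.conj g)
    rw [Subgroup.mem_normalizer_iff]
    intro z
    constructor
    · intro hz; rw [← h]; exact ⟨z, hz, rfl⟩
    · intro hz
      rw [← h] at hz
      obtain ⟨y, hy, hyz⟩ := hz
      rwa [(MulAut.conj g).injective (hyz : MulAut.conj g y = MulAut.conj g z)] at hy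
  refine hm.le_owner P hs hsP ?_ (Subgroup.le_normalizer
    (hm.sylow_le_owner P (Subgroup.le_normalizer hsP))) hnorm
  intro h
  haveI := Subgroup.normalizer_eq_top_iff.1 h
  exact hs.2.2 (hm.le_center (N := owner k P) (hm.owner_ne_top P hs hsP)
    (hm.sylow_le_owner P (Subgroup.le_normalizer hsP)))

/-- A noncentral Sylow subgroup lies in the derived group of its owner and is normal there. -/
theorem owner_spec {r : ℕ} [hr : Fact r.Prime] (P : Sylow r G)
    (hP : ¬ (P : Subgroup G) ≤ Subgroup.center G) :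
    (P : Subgroup G) ≤ ⁅owner k P, owner k P⁆ ∧
      owner k P = Subgroup.normalizer ((P : Subgroup G) : Set G) := by
  have hPM : (P : Subgroup G) ≤ owner k P :=
    Subgroup.le_normalizer.trans (hm.sylow_le_owner P)
  have hfoc : (P : Subgroup G) ≤ (P : Subgroup G).focalSubgroup := by
    rw [← Subgroup.ker_transferFocal_inf_eq_focalSubgroup P]
    refine le_inf ?_ le_rfl
    refine le_top.trans ?_
    rw [← hm.perfect]
    letI : CommGroup ((P : Subgroup G) ⧸ (P : Subgroup G).focalSubgroupOf) :=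
      { (inferInstance : Group ((P : Subgroup G) ⧸ (P : Subgroup G).focalSubgroupOf)) with
        mul_comm := mul_comm' }
    exact Abelianization.commutator_subset_ker _
  have hder : (P : Subgroup G) ≤ ⁅owner k P, owner k P⁆ := by
    refine hfoc.trans ?_
    rw [Subgroup.focalSubgroup_def, Subgroup.closure_le]
    rintro c ⟨hcP, x, hx, u, rfl⟩
    by_cases hxc : x ∈ Subgroup.center G
    · rw [commutatorElement_eq_one_iff_mul_comm.2 ((Subgroup.mem_center_iff.1 hxc) u).symm]
      exact one_mem _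
    · have hux : u * x * u⁻¹ ∈ (P : Subgroup G) := by
        have h1 : u * x⁻¹ * u⁻¹ ∈ (P : Subgroup G) := by
          have := mul_mem (inv_mem hx) hcP
          rwa [commutatorElement_def, show x⁻¹ * (x * u * x⁻¹ * u⁻¹) = u * x⁻¹ * u⁻¹ by group]
            at this
        have := inv_mem h1
        rwa [show (u * x⁻¹ * u⁻¹)⁻¹ = u * x * u⁻¹ by group] at this
      exact Subgroup.commutator_mem_commutator (hPM hx) (hm.mem_owner_of_conj P hx hxc hux)
  refine ⟨hder, le_antisymm ?_ (hm.sylow_le_owner P)⟩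
  obtain ⟨s, hs, hsP, -⟩ := hm.exists_special P hP
  set M := owner k P with hM
  haveI := hm.sol M (hm.owner_ne_top P hs hsP)
  have hcM : Cond M k := hm.cond.of_injective M.subtype M.subtype_injective
  obtain ⟨n, hn⟩ := hcM.exists_lcs_le_fitting
  set P' : Sylow r M := P.subtype hPM with hP'
  haveI : (Cfsg.fittingSubgroup M).Normal := FittingCores.fitting_normal
  haveI : Group.IsNilpotent (M ⧸ Cfsg.fittingSubgroup M) := by
    rw [Subgroup.nilpotent_iff_lowerCentralSeries]
    refine ⟨n, ?_⟩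
    rw [← lcs_map_top (QuotientGroup.mk'_surjective _), Subgroup.map_eq_bot_iff,
      QuotientGroup.ker_mk']
    exact hn
  have hb := sylow_eq_bot_of_le_commutator (P'.mapSurjective
    (QuotientGroup.mk'_surjective (Cfsg.fittingSubgroup M))) (by
      rw [Sylow.coe_mapSurjective, ← Subgroup.map_top_of_surjective _
        (QuotientGroup.mk'_surjective (Cfsg.fittingSubgroup M)), ← Subgroup.map_commutator]
      refine Subgroup.map_mono ?_
      rw [hP', Sylow.coe_subtype, ← Subgroup.map_le_map_iff_of_injective M.subtype_injective,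
        Subgroup.map_commutator, ← MonoidHom.range_eq_map, Subgroup.range_subtype,
        Subgroup.map_subgroupOf_eq_of_le hPM]
      exact hder)
  rw [Sylow.coe_mapSurjective, Subgroup.map_eq_bot_iff, QuotientGroup.ker_mk'] at hb
  intro g hg
  rw [Subgroup.mem_normalizer_iff]
  have key : ∀ g ∈ M, ∀ z ∈ (P : Subgroup G), g * z * g⁻¹ ∈ (P : Subgroup G) := by
    intro g hg z hz
    have hzP' : (⟨z, hPM hz⟩ : M) ∈ (P' : Subgroup M) := by
      rw [hP', Sylow.coe_subtype]; exact hz
    haveI := FittingCores.fitting_nilpotent (G := M)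
    have h1 : (⟨z, hPM hz⟩ : M) ∈ Cfsg.pCore r M :=
      FiniteGroup.mem_pCore_of_mem_normal_nilpotent _ (hb hzP')
        (mem_isPGroup_orderOf P'.isPGroup' hzP')
    have h2 := FittingCores.pCore_le_sylow P'
      ((FittingCores.pCore_normal r).conj_mem _ h1 ⟨g, hg⟩)
    rw [hP', Sylow.coe_subtype] at h2
    exact h2
  intro z
  refine ⟨key g hg z, fun hz => ?_⟩
  have := key g⁻¹ (M.inv_mem hg) _ hz
  have he : g⁻¹ * (g * z * g⁻¹) * g⁻¹⁻¹ = z := by group
  rwa [he] at this

/-- The central quotient is a configuration. -/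
theorem config : Config (G ⧸ Subgroup.center G) := by
  set f := QuotientGroup.mk' (Subgroup.center G) with hf
  have hfs : Function.Surjective f := QuotientGroup.mk'_surjective _
  have hproper : ∀ K : Subgroup (G ⧸ Subgroup.center G), K ≠ ⊤ → K.comap f ≠ ⊤ := by
    intro K hK h
    refine hK ?_
    rw [← Subgroup.map_comap_eq_self_of_surjective hfs K, h, Subgroup.map_top_of_surjective _ hfs]
  -- lifting `r`-elements
  have hlift : ∀ {r : ℕ} [Fact r.Prime] (P : Sylow r G) {v : G}, v ∈ (P : Subgroup G) →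
      f v ≠ 1 → ¬ (P : Subgroup G) ≤ Subgroup.center G ∧ v ∉ Subgroup.center G := by
    intro r _ P v hv h1
    have hvc : v ∉ Subgroup.center G := fun hc => h1 ((QuotientGroup.eq_one_iff v).2 hc)
    exact ⟨hm.not_le_center hv hvc, hvc⟩
  have hnorm : ∀ {r : ℕ} [Fact r.Prime] (P : Sylow r G), ∀ g,
      g ∈ Subgroup.normalizer (((P : Subgroup G).map f : Subgroup _) : Set (G ⧸ Subgroup.center G)) ↔
      ∃ g' ∈ Subgroup.normalizer ((P : Subgroup G) : Set G), f g' = g := by
    intro r _ P q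
    constructor
    · intro hq
      obtain ⟨g, rfl⟩ := hfs q
      refine ⟨g, ?_, rfl⟩
      have key : ∀ g, f g ∈ Subgroup.normalizer
          (((P : Subgroup G).map f : Subgroup _) : Set (G ⧸ Subgroup.center G)) →
          ∀ v ∈ (P : Subgroup G), g * v * g⁻¹ ∈ (P : Subgroup G) := by
        intro g hg v hv
        obtain ⟨w, hw, hwv⟩ : f (g * v * g⁻¹) ∈ (P : Subgroup G).map f := by
          rw [map_mul, map_mul, map_inv]
          exact (Subgroup.mem_normalizer_iff.1 hg _).1 ⟨v, hv, rfl⟩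
        have hz : w⁻¹ * (g * v * g⁻¹) ∈ Subgroup.center G := by
          rw [← QuotientGroup.eq_one_iff]
          change f (w⁻¹ * (g * v * g⁻¹)) = 1
          rw [map_mul, map_inv, hwv, inv_mul_cancel]
        have hzP := center_mul_mem hz (a := w) (b := g * v * g⁻¹) (by group)
          (mem_isPGroup_orderOf P.isPGroup' hw) (by
            obtain ⟨i, hi⟩ := mem_isPGroup_orderOf P.isPGroup' hv
            exact ⟨i, (orderOf_injective (MulAut.conj g).toMonoidHom
              (MulAut.conj g).injective v).trans hi⟩) P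
        have := mul_mem hw hzP
        rwa [mul_inv_cancel_left] at this
      rw [Subgroup.mem_normalizer_iff]
      intro v
      refine ⟨key g hq v, fun hv => ?_⟩
      have := key g⁻¹ (by rw [map_inv]; exact inv_mem hq) _ hv
      have he : g⁻¹ * (g * v * g⁻¹) * g⁻¹⁻¹ = v := by group
      rwa [he] at this
    · rintro ⟨g', hg', rfl⟩
      exact Subgroup.le_normalizer_map f ⟨g', hg', rfl⟩
  refine
    { simple := hm.simple
      nsol := hm.nsol_quotient
      sol := ?_
      nilq := ?_
      ti := ?_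
      ex := ?_
      engel := ⟨k, ?_⟩
      der := ?_ }
  · intro K hK
    haveI := hm.sol _ (hproper K hK)
    exact Group.isSolvable_of_surjective (f := f.subgroupComap K) fun ⟨q, hq⟩ => by
      obtain ⟨g, rfl⟩ := hfs q
      exact ⟨⟨g, hq⟩, rfl⟩
  · intro K hK
    haveI := hm.sol _ (hproper K hK)
    obtain ⟨n, hn⟩ :=
      (hm.cond.of_injective (K.comap f).subtype (K.comap f).subtype_injective).exists_lcs_le_fitting
    refine ⟨n, ?_⟩
    have hψ : Function.Surjective (f.subgroupComap K) := fun ⟨q, hq⟩ => by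
      obtain ⟨g, rfl⟩ := hfs q
      exact ⟨⟨g, hq⟩, rfl⟩
    have h1 : (⊤ : Subgroup K).lowerCentralSeries n ≤ Cfsg.fittingSubgroup K := by
      rw [← lcs_map_top hψ]
      exact (Subgroup.map_mono hn).trans (FittingCores.fitting_map_le hψ)
    rw [← Subgroup.top_subtype_lowerCentralSeries]
    exact Subgroup.map_mono h1
  · intro r hr P Q u huP huQ hu
    haveI := Fact.mk hr
    obtain ⟨P, rfl⟩ := Sylow.mapSurjective_surjective hfs r P
    obtain ⟨Q, rfl⟩ := Sylow.mapSurjective_surjective hfs r Q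
    obtain ⟨v, hv, rfl⟩ := huP
    obtain ⟨w, hw, hwv⟩ := huQ
    have hz : w⁻¹ * v ∈ Subgroup.center G := by
      rw [← QuotientGroup.eq_one_iff]
      change f (w⁻¹ * v) = 1
      rw [map_mul, map_inv, hwv, inv_mul_cancel]
    have hzQ := center_mul_mem hz (a := w) (b := v) (by group)
      (mem_isPGroup_orderOf Q.isPGroup' hw) (mem_isPGroup_orderOf P.isPGroup' hv) Q
    have hvQ : v ∈ (Q : Subgroup G) := by
      have := mul_mem hw hzQ
      rwa [mul_inv_cancel_left] at this
    obtain ⟨hP, hvc⟩ := hlift P hv hu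
    obtain ⟨hQ, -⟩ := hlift Q hvQ hu
    have heq := hm.owner_eq P Q hv hvQ hvc
    rw [(hm.owner_spec P hP).2, (hm.owner_spec Q hQ).2] at heq
    have hQP : (Q : Subgroup G) ≤ (P : Subgroup G) := by
      have hle : (Q : Subgroup G) ≤ Subgroup.normalizer ((P : Subgroup G) : Set G) :=
        heq ▸ Subgroup.le_normalizer
      rw [← P.is_maximal' (Q.isPGroup'.to_sup_of_normal_right' P.isPGroup' hle) le_sup_right]
      exact le_sup_left
    have hPQ : P = Q := Sylow.ext (Q.is_maximal' P.isPGroup' hQP)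
    rw [hPQ]
  · intro r hr P hP
    haveI := Fact.mk hr
    obtain ⟨P, rfl⟩ := Sylow.mapSurjective_surjective hfs r P
    have hPc : ¬ (P : Subgroup G) ≤ Subgroup.center G := by
      intro h
      refine hP ?_
      rw [Sylow.coe_mapSurjective, Subgroup.map_eq_bot_iff, QuotientGroup.ker_mk']
      exact h
    obtain ⟨s, hs, hsP, -⟩ := hm.exists_special P hPc
    refine ⟨f s, ⟨s, hsP, rfl⟩, fun h => hs.2.2 ((QuotientGroup.eq_one_iff s).1 h),
      fun K hK hsK q hq => ?_⟩
    obtain ⟨g, rfl⟩ := hfs q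
    have := hm.le_owner P hs hsP (hproper K hK) hsK hq
    rw [(hm.owner_spec P hPc).2] at this
    exact (hnorm P (f g)).2 ⟨g, this, rfl⟩
  · intro r hr P u hu a ha h1 K hK hxK q hq
    haveI := Fact.mk hr
    obtain ⟨P, rfl⟩ := Sylow.mapSurjective_surjective hfs r P
    obtain ⟨v, hv, rfl⟩ := hu
    obtain ⟨b, hb, rfl⟩ := (hnorm P a).1 ha
    obtain ⟨g, rfl⟩ := hfs q
    rw [← map_engel] at h1 hxK
    have hxP : CommValues.engel b (k + 1) v ∈ (P : Subgroup G) :=
      engel_mem (fun n hn => (Subgroup.mem_normalizer_iff.1 hb n).1 hn) hv (k + 1)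
    obtain ⟨hPc, hxc⟩ := hlift P hxP h1
    have hx : CommValues.engel b (k + 1) v ∈ Sig G k r :=
      ⟨engel_succ_mem_val b v k, mem_isPGroup_orderOf P.isPGroup' hxP, hxc⟩
    have := hm.le_owner P hx hxP (hproper K hK) hxK hq
    rw [(hm.owner_spec P hPc).2] at this
    exact (hnorm P (f g)).2 ⟨g, this, rfl⟩
  · intro r hr P
    haveI := Fact.mk hr
    obtain ⟨P, rfl⟩ := Sylow.mapSurjective_surjective hfs r P
    by_cases hPc : (P : Subgroup G) ≤ Subgroup.center G
    · have : ((P.mapSurjective hfs : Sylow r _) : Subgroup (G ⧸ Subgroup.center G)) = ⊥ := by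
        rw [Sylow.coe_mapSurjective, Subgroup.map_eq_bot_iff, QuotientGroup.ker_mk']
        exact hPc
      exact this.le.trans bot_le
    · obtain ⟨h1, h2⟩ := hm.owner_spec P hPc
      rw [h2] at h1
      have h3 := Subgroup.map_mono (f := f) h1
      rw [Subgroup.map_commutator] at h3
      exact h3.trans (Subgroup.commutator_mono (Subgroup.le_normalizer_map f)
        (Subgroup.le_normalizer_map f))

/-- There is no such group. -/
theorem contra : False := hm.config.contra

end Minimal

/-- The condition implies solvability. -/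
theorem Cond.isSolvable [Finite G] {k : ℕ} (h : Cond G k) : Group.IsSolvable G := by
  suffices key : ∀ n (G : Type u) [Group G] [Finite G], Nat.card G = n → Cond G k →
      Group.IsSolvable G from key _ G rfl h
  intro n
  induction n using Nat.strong_induction_on with
  | _ n ih =>
    intro G _ _ hn hG
    by_contra hns
    refine Minimal.contra (k := k) ⟨hG, hns, fun K hK => ?_⟩
    refine ih (Nat.card K) ?_ K rfl (hG.of_injective K.subtype K.subtype_injective)
    rw [← hn]
    rcases lt_or_eq_of_le (Subgroup.card_le_card_group K) with h | h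
    · exact h
    · exact absurd (Subgroup.eq_top_of_card_eq K h) hK

end Cfsg.Agent.CommValues
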