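import Cfsg.Agent.Lib.CommValues.Values
import Cfsg.Agent.Lib.Solvable.Fitting

/-!
The solvable case of the product-order criterion: the Fitting quotient is nilpotent, values of
prime power order lie in the core, and the lower central term lies in the Fitting subgroup.
-/

set_option autoImplicit false
set_option linter.style.haveILetI false

namespace Cfsg.Agent.CommValues

open scoped commutatorElement

universe u v

variable {G : Type u} [Group G] {K : Type v} [Group K]

/-- A normal complement of a Sylow subgroup contains a term of the lower central series. -/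
theorem exists_lcs_le_of_complement [Finite G] {r : ℕ} [Fact r.Prime] {N : Subgroup G} [N.Normal]
    {P : Sylow r G} (hc : N.IsComplement' (P : Subgroup G)) :
    ∃ n, (⊤ : Subgroup G).lowerCentralSeries n ≤ N := by
  have hp : IsPGroup r (G ⧸ N) := by
    obtain ⟨i, hi⟩ := IsPGroup.iff_card.1 P.isPGroup'
    refine IsPGroup.of_card (n := i) ?_
    rw [← N.index_eq_card, hc.symm.index_eq_card, hi]
  haveI := hp.isNilpotent
  obtain ⟨n, hn⟩ := Subgroup.nilpotent_iff_lowerCentralSeries.1
    (inferInstance : Group.IsNilpotent (G ⧸ N))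
  refine ⟨n, fun x hx => ?_⟩
  rw [← QuotientGroup.eq_one_iff, ← Subgroup.mem_bot, ← hn]
  have h := Subgroup.map_lowerCentralSeries (⊤ : Subgroup G) (QuotientGroup.mk' N) n
  rw [Subgroup.map_top_of_surjective _ (QuotientGroup.mk'_surjective N)] at h
  exact h ▸ Subgroup.mem_map_of_mem _ hx

theorem lcs_map_top {H : Type v} [Group H] {f : G →* H} (hf : Function.Surjective f) (n : ℕ) :
    ((⊤ : Subgroup G).lowerCentralSeries n).map f = (⊤ : Subgroup H).lowerCentralSeries n := by
  rw [Subgroup.map_lowerCentralSeries, Subgroup.map_top_of_surjective _ hf]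

/-- A normal complement contains the elements of coprime order. -/
theorem mem_complement_of_not_dvd [Finite G] {r : ℕ} [hr : Fact r.Prime] {N : Subgroup G}
    [N.Normal] {P : Sylow r G} (hc : N.IsComplement' (P : Subgroup G)) {x : G}
    (hx : ¬ r ∣ orderOf x) : x ∈ N := by
  obtain ⟨i, hi⟩ := IsPGroup.iff_card.1 P.isPGroup'
  rw [← QuotientGroup.eq_one_iff, ← orderOf_eq_one_iff]
  refine Nat.eq_one_of_dvd_coprimes (Nat.Coprime.pow_right i
    (hr.out.coprime_iff_not_dvd.2 hx).symm) (orderOf_map_dvd (QuotientGroup.mk' N) x) ?_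
  rw [← hi, ← hc.symm.index_eq_card, N.index_eq_card]
  exact orderOf_dvd_natCard _

theorem not_dvd_of_primePow {r q i : ℕ} (hr : r.Prime) (hq : q.Prime) (hne : r ≠ q) {x : G}
    (hx : orderOf x = q ^ i) : ¬ r ∣ orderOf x := fun h =>
  hne ((Nat.prime_dvd_prime_iff_eq hr hq).1 (hr.dvd_of_dvd_pow (hx ▸ h)))

/-- A value of `r`-power order centralises the `p`-core for `p ≠ r`. -/
theorem Cond.commute_pCore [Finite G] {k p r i : ℕ} (h : Cond G k) (hp : p.Prime) (hr : r.Prime)
    (hne : p ≠ r) {x : G} (hxv : x ∈ Val G k) (hx : orderOf x = r ^ i) {n : G}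
    (hn : n ∈ Cfsg.pCore p G) : Commute n x :=
  h.commute hxv (fun m hm => (FittingCores.pCore_normal p).conj_mem m hm x)
    (coprime_pow_orderOf hp (FittingCores.pCore_isPGroup p) (not_dvd_of_primePow hp hr hne hx)) hn

/-- The elements of the kernel of the action on the cores inherited from `p`-quotients: the
`q`-part of a solvable group centralising all other cores and lying in a normal subgroup with this
property for all primes is nilpotent. -/
theorem le_fitting_of_centralizes [Finite G] [Group.IsSolvable G] (K0 : Subgroup G) [K0.Normal]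
    (h : ∀ q : ℕ, q.Prime → ∀ x ∈ K0, (∃ i, orderOf x = q ^ i) → ∀ p : ℕ, p.Prime → p ≠ q →
      ∀ n ∈ Cfsg.pCore p G, Commute n x) : K0 ≤ Cfsg.fittingSubgroup G := by
  intro x hx
  refine FiniteGroup.mem_of_primePow_mem _ x fun q hq y hy hyq => ?_
  haveI := Fact.mk hq
  have hyK : y ∈ K0 := (Subgroup.zpowers_le.2 hx) hy
  set O : Subgroup G := ⨆ (p : Nat.Primes) (_ : (p : ℕ) ≠ q), Cfsg.pCore (p : ℕ) G with hO
  haveI hOn : O.Normal := by
    refine ⟨fun n hn g => ?_⟩
    suffices hle : O ≤ O.comap (MulAut.conj g).toMonoidHom from hle hn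
    refine iSup_le fun p => iSup_le fun hp m hm => ?_
    exact le_iSup₂ (f := fun (p : Nat.Primes) (_ : (p : ℕ) ≠ q) => Cfsg.pCore (p : ℕ) G) p hp
      ((FittingCores.pCore_normal _).conj_mem m hm g)
  set L := K0 ⊓ Subgroup.centralizer (O : Set G) with hL
  have hyL : ∀ z ∈ K0, (∃ i, orderOf z = q ^ i) → z ∈ L := by
    intro z hz hzq
    refine ⟨hz, ?_⟩
    have hle : O ≤ Subgroup.centralizer {z} := by
      refine iSup_le fun p => iSup_le fun hp m hm => ?_
      exact Subgroup.mem_centralizer_singleton_iff.2 (h q hq z hz hzq p p.2 hp m hm).eq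
    intro m hm
    exact Subgroup.mem_centralizer_singleton_iff.1 (hle hm)
  -- prime power elements of `L` of order prime to `q` lie in its center
  have hLc : ∀ (r : ℕ), r.Prime → r ≠ q → ∀ z ∈ L, (∃ i, orderOf z = r ^ i) →
      z ∈ O := by
    intro r hr hrq z hz hzr
    haveI := Fact.mk hr
    have hzF : z ∈ Cfsg.fittingSubgroup G := by
      refine FittingCores.centralizer_fitting_le ?_
      have hle : Cfsg.fittingSubgroup G ≤ Subgroup.centralizer {z} := by
        rw [FittingCores.fitting_eq_iSup_pCore]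
        refine iSup_le fun p m hm => ?_
        rw [Subgroup.mem_centralizer_singleton_iff]
        by_cases hp : (p : ℕ) = q
        · exact (h r hr z hz.1 hzr p p.2 (by omega) m hm).eq
        · exact hz.2 m (le_iSup₂ (f := fun (p : Nat.Primes) (_ : (p : ℕ) ≠ q) =>
            Cfsg.pCore (p : ℕ) G) p hp hm)
      intro m hm
      exact Subgroup.mem_centralizer_singleton_iff.1 (hle hm)
    haveI : (Cfsg.fittingSubgroup G).Normal := FittingCores.fitting_normal
    haveI := FittingCores.fitting_nilpotent (G := G)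
    have hzO := FiniteGroup.mem_pCore_of_mem_normal_nilpotent (p := r) _ hzF hzr
    exact le_iSup₂ (f := fun (p : Nat.Primes) (_ : (p : ℕ) ≠ q) => Cfsg.pCore (p : ℕ) G)
      ⟨r, hr⟩ hrq hzO
  have hnil : Group.IsNilpotent L := by
    have hpg : IsPGroup q (↥L ⧸ Subgroup.center ↥L) := by
      intro a
      obtain ⟨a, rfl⟩ := QuotientGroup.mk'_surjective _ a
      obtain ⟨e, m, hqm, hem⟩ :=
        Nat.exists_eq_pow_mul_and_not_dvd (orderOf_pos (a : G)).ne' q hq.ne_one
      refine ⟨e, ?_⟩
      rw [← map_pow, QuotientGroup.mk'_apply, QuotientGroup.eq_one_iff, Subgroup.mem_center_iff]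
      intro b
      apply Subtype.ext
      simp only [Subgroup.coe_mul, SubmonoidClass.coe_pow]
      have hwm : orderOf ((a : G) ^ q ^ e) ∣ m := by
        refine orderOf_dvd_of_pow_eq_one ?_
        rw [← pow_mul, ← hem, pow_orderOf_eq_one]
      have hmem : (a : G) ^ q ^ e ∈ L ⊓ O := by
        refine FiniteGroup.mem_of_primePow_mem _ _ fun r hr z hz hzr => ?_
        have hzL : z ∈ L := (Subgroup.zpowers_le.2 (L.pow_mem a.2 _)) hz
        obtain ⟨i, hi⟩ := hzr
        rcases Nat.eq_zero_or_pos i with rfl | hi0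
        · rw [orderOf_eq_one_iff.1 (hi.trans (pow_zero r))]; exact one_mem _
        refine ⟨hzL, hLc r hr ?_ z hzL ⟨i, hi⟩⟩
        rintro rfl
        apply hqm
        refine (dvd_pow_self r hi0.ne').trans ?_
        rw [← hi]
        obtain ⟨j, rfl⟩ := Subgroup.mem_zpowers_iff.1 hz
        exact (orderOf_dvd_of_pow_eq_one (by
          rw [← zpow_natCast, zpow_comm, zpow_natCast, pow_orderOf_eq_one, one_zpow])).trans hwm
      exact (b.2.2 _ hmem.2).symm
    haveI := hpg.isNilpotent
    exact Group.of_quotient_center_nilpotent inferInstance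
  exact FittingCores.le_fitting inferInstance hnil (hyL y hyK hyq)

/-- In a solvable group with the condition the Fitting quotient is nilpotent. -/
theorem Cond.exists_lcs_le_fitting [Finite G] [Group.IsSolvable G] {k : ℕ} (h : Cond G k) :
    ∃ n, (⊤ : Subgroup G).lowerCentralSeries n ≤ Cfsg.fittingSubgroup G := by
  have key : ∀ p r : ℕ, p.Prime → r.Prime → p ≠ r → ∃ (N : Subgroup G) (n : ℕ), N.Normal ∧
      (⊤ : Subgroup G).lowerCentralSeries n ≤ N ∧
      ∀ q : ℕ, q.Prime → q ≠ p → ∀ x : G, (∃ i, orderOf x = q ^ i) → r = q → x ∈ N →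
        ∀ m ∈ Cfsg.pCore p G, Commute m x := by
    intro p r hp hr hne
    haveI := Fact.mk hr
    haveI : (Cfsg.pCore p G).Normal := FittingCores.pCore_normal p
    set C := Subgroup.centralizer (Cfsg.pCore p G : Set G) with hC
    obtain ⟨P, N, hN, hc⟩ := hasNormalPComplement_of_val_ker (k := k) (r := r)
      (QuotientGroup.mk'_surjective C) (fun x hx ⟨i, hi⟩ => (QuotientGroup.eq_one_iff x).2
        fun m hm => (h.commute_pCore hp hr hne hx hi hm).eq)
    haveI := hN
    obtain ⟨n, hn⟩ := exists_lcs_le_of_complement hc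
    refine ⟨N.comap (QuotientGroup.mk' C), n, inferInstance, ?_, ?_⟩
    · rw [← Subgroup.map_le_iff_le_comap, lcs_map_top (QuotientGroup.mk'_surjective C)]
      exact hn
    · rintro q hq - x ⟨i, hi⟩ rfl hxN m hm
      have h1 : QuotientGroup.mk' C x = 1 := by
        obtain ⟨j, hj, hji⟩ : ∃ j, j ≤ i ∧ orderOf (QuotientGroup.mk' C x) = r ^ j :=
          (Nat.dvd_prime_pow hr).1 (hi ▸ orderOf_map_dvd (QuotientGroup.mk' C) x)
        rw [← orderOf_eq_one_iff]
        have h2 : ¬ r ∣ Nat.card N := by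
          rw [← hc.index_eq_card]
          exact P.not_dvd_index
        rcases Nat.eq_zero_or_pos j with rfl | hj0
        · simpa using hji
        · exact absurd ((dvd_pow_self r hj0.ne').trans (hji ▸
            Subgroup.orderOf_dvd_natCard N hxN)) h2
      exact ((QuotientGroup.eq_one_iff x).1 h1 m hm)
  choose! N n hNn hle hNc using key
  set S := (Nat.card G).primeFactors
  set K0 : Subgroup G := ⨅ (pr : S × S) (_ : (pr.1 : ℕ) ≠ pr.2), N pr.1 pr.2 with hK0
  haveI : K0.Normal := by
    refine Subgroup.normal_iInf_normal fun pr => Subgroup.normal_iInf_normal fun hne => ?_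
    exact hNn _ _ (Nat.prime_of_mem_primeFactors pr.1.2) (Nat.prime_of_mem_primeFactors pr.2.2) hne
  refine ⟨(S ×ˢ S).sup fun pr => n pr.1 pr.2, le_trans ?_ (le_fitting_of_centralizes K0 ?_)⟩
  · refine le_iInf fun pr => le_iInf fun hne => ?_
    refine le_trans ((⊤ : Subgroup G).lowerCentralSeries_antitone ?_) (hle _ _
      (Nat.prime_of_mem_primeFactors pr.1.2) (Nat.prime_of_mem_primeFactors pr.2.2) hne)
    exact Finset.le_sup (f := fun pr : ℕ × ℕ => n pr.1 pr.2)
      (b := ((pr.1 : ℕ), (pr.2 : ℕ))) (Finset.mem_product.2 ⟨pr.1.2, pr.2.2⟩)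
  · rintro q hq x hx ⟨i, hi⟩ p hp hpq m hm
    rcases Nat.eq_zero_or_pos i with rfl | hi0
    · rw [orderOf_eq_one_iff.1 (hi.trans (pow_zero q))]; exact Commute.one_right m
    by_cases hpG : p ∣ Nat.card G
    · have hqG : q ∣ Nat.card G :=
        (dvd_pow_self q hi0.ne').trans (hi ▸ orderOf_dvd_natCard x)
      have hxN : x ∈ N p q := by
        have := Subgroup.mem_iInf.1 (Subgroup.mem_iInf.1 hx
          (⟨p, Nat.mem_primeFactors.2 ⟨hp, hpG, Nat.card_pos.ne'⟩⟩,
            ⟨q, Nat.mem_primeFactors.2 ⟨hq, hqG, Nat.card_pos.ne'⟩⟩)) hpq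
        exact this
      exact hNc p q hp hq hpq q hq (fun e => hpq e.symm) x ⟨i, hi⟩ rfl hxN m hm
    · haveI := Fact.mk hp
      obtain ⟨j, hj⟩ := mem_isPGroup_orderOf (FittingCores.pCore_isPGroup p) hm
      rcases Nat.eq_zero_or_pos j with rfl | hj0
      · rw [orderOf_eq_one_iff.1 (hj.trans (pow_zero p))]; exact Commute.one_left x
      · exact absurd ((dvd_pow_self p hj0.ne').trans (hj ▸ orderOf_dvd_natCard m)) hpG

/-- With nilpotent Fitting quotient, the Fitting subgroup with a Sylow subgroup is normal. -/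
theorem normal_sup_sylow [Finite G] {n : ℕ}
    (hn : (⊤ : Subgroup G).lowerCentralSeries n ≤ Cfsg.fittingSubgroup G) {p : ℕ} [Fact p.Prime]
    (P : Sylow p G) : (Cfsg.fittingSubgroup G ⊔ (P : Subgroup G)).Normal := by
  haveI : (Cfsg.fittingSubgroup G).Normal := FittingCores.fitting_normal
  set f := QuotientGroup.mk' (Cfsg.fittingSubgroup G)
  haveI : Group.IsNilpotent (G ⧸ Cfsg.fittingSubgroup G) := by
    rw [Subgroup.nilpotent_iff_lowerCentralSeries]
    refine ⟨n, ?_⟩
    rw [← lcs_map_top (QuotientGroup.mk'_surjective _), Subgroup.map_eq_bot_iff,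
      QuotientGroup.ker_mk']
    exact hn
  have hn2 : ((P.mapSurjective (QuotientGroup.mk'_surjective (Cfsg.fittingSubgroup G)) :
      Sylow p _) : Subgroup (G ⧸ Cfsg.fittingSubgroup G)).Normal := inferInstance
  have h := hn2.comap f
  rwa [Sylow.coe_mapSurjective, Subgroup.comap_map_eq, QuotientGroup.ker_mk', sup_comm] at h

variable [Finite G] [Finite K] [Group.IsSolvable K]

/-- In a solvable subgroup, values of prime power order lie in the core. -/
theorem Cond.mem_pCore_of_injective {k q i : ℕ} (h : Cond G k) {ι : K →* G}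
    (hι : Function.Injective ι) (hq : q.Prime) {y : K} (hy : ι y ∈ Val G k)
    (hyo : orderOf y = q ^ i) : y ∈ Cfsg.pCore q K := by
  haveI := Fact.mk hq
  obtain ⟨n, hn⟩ := (h.of_injective ι hι).exists_lcs_le_fitting
  have hyP : IsPGroup q (Subgroup.zpowers y) :=
    IsPGroup.of_card (n := i) (by rw [Nat.card_zpowers, hyo])
  obtain ⟨P, hP⟩ := hyP.exists_le_sylow
  set T : Set K := {z | z ∈ (P : Subgroup K) ∧ ι z ∈ Val G k} with hT
  set D := Subgroup.closure T with hD
  have hconjT : ∀ g : K, (∀ z ∈ (P : Subgroup K), g * z * g⁻¹ ∈ (P : Subgroup K)) →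
      ∀ z ∈ T, g * z * g⁻¹ ∈ T := by
    rintro g hg z ⟨hz1, hz2⟩
    refine ⟨hg z hz1, ?_⟩
    rw [map_mul, map_mul, map_inv]
    exact conj_mem _ hz2
  have hnorm : ∀ g : K, (∀ z ∈ T, g * z * g⁻¹ ∈ D) → g ∈ Subgroup.normalizer (D : Set K) := by
    intro g hg
    have hle : D.map (MulAut.conj g).toMonoidHom ≤ D := by
      rw [hD, MonoidHom.map_closure, Subgroup.closure_le]
      rintro _ ⟨z, hz, rfl⟩
      exact hg z hz
    have heq := Subgroup.eq_of_le_of_card_ge hle (by
      rw [Subgroup.card_map_of_injective (MulAut.conj g).injective])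
    rw [Subgroup.mem_normalizer_iff]
    intro z
    constructor
    · exact fun hz => heq ▸ ⟨z, hz, rfl⟩
    · intro hz
      rw [← heq] at hz
      obtain ⟨w, hw, hwz⟩ := hz
      rwa [(MulAut.conj g).injective (hwz : MulAut.conj g w = MulAut.conj g z)] at hw
  have hNP : Subgroup.normalizer ((P : Subgroup K) : Set K) ≤ Subgroup.normalizer (D : Set K) :=
    fun g hg => hnorm g fun z hz => Subgroup.subset_closure
      (hconjT g (fun w hw => (Subgroup.mem_normalizer_iff.1 hg w).1 hw) z hz)
  have hF : Cfsg.fittingSubgroup K ≤ Subgroup.normalizer (D : Set K) := by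
    rw [FittingCores.fitting_eq_iSup_pCore]
    refine iSup_le fun p m hm => ?_
    by_cases hp : (p : ℕ) = q
    · rw [hp] at hm
      exact hNP (Subgroup.le_normalizer (FittingCores.pCore_le_sylow P hm))
    refine hnorm m fun z hz => ?_
    obtain ⟨hz1, hz2⟩ := hz
    obtain ⟨j, hj⟩ := mem_isPGroup_orderOf P.isPGroup' hz1
    have hc : Commute (ι m) (ι z) := by
      refine h.commute (N := (Cfsg.pCore (p : ℕ) K).map ι) hz2 ?_ ?_ ⟨m, hm, rfl⟩
      · rintro _ ⟨w, hw, rfl⟩
        exact ⟨z * w * z⁻¹, (FittingCores.pCore_normal _).conj_mem w hw z, by simp⟩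
      · exact coprime_pow_orderOf p.2 ((FittingCores.pCore_isPGroup _).map ι)
          (not_dvd_of_primePow p.2 hq hp (i := j) (by rw [orderOf_injective ι hι, hj]))
    have : m * z * m⁻¹ = z := hι (by rw [map_mul, map_mul, map_inv, hc.eq, mul_inv_cancel_right])
    rw [this]
    exact Subgroup.subset_closure ⟨hz1, hz2⟩
  have htop : Subgroup.normalizer (D : Set K) = ⊤ := by
    have h1 := normal_sup_sylow hn P
    rw [← top_le_iff, ← Sylow.normalizer_sup_eq_top' P
      (le_sup_right : (P : Subgroup K) ≤ Cfsg.fittingSubgroup K ⊔ (P : Subgroup K))]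
    exact sup_le hNP (sup_le hF (Subgroup.le_normalizer.trans hNP))
  have hDn : D.Normal := Subgroup.normalizer_eq_top_iff.1 htop
  refine FittingCores.le_pCore hDn ?_ (Subgroup.subset_closure
    ⟨hP (Subgroup.mem_zpowers y), hy⟩)
  exact P.isPGroup'.to_le ((Subgroup.closure_le _).2 fun z hz => hz.1)

/-- An element in all `p'`-cores of a finite group is trivial. -/
theorem eq_one_of_forall_pPrimeCore {x : G}
    (h : ∀ p : ℕ, p.Prime → x ∈ Cfsg.pPrimeCore p G) : x = 1 := by
  rw [← orderOf_eq_one_iff]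
  by_contra hne
  obtain ⟨p, hp, hd⟩ := Nat.exists_prime_and_dvd hne
  refine hp.coprime_iff_not_dvd.1 (FittingCores.pPrimeCore_coprime (G := G) p).symm ?_
  exact hd.trans (Subgroup.orderOf_dvd_natCard _ (h p hp))

/-- In a nilpotent group a Sylow subgroup and the `p'`-core generate. -/
theorem sylow_sup_pPrimeCore [Group.IsNilpotent G] {p : ℕ} [hp : Fact p.Prime] (P : Sylow p G) :
    (P : Subgroup G) ⊔ Cfsg.pPrimeCore p G = ⊤ := by
  refine FittingCores.eq_top_of_forall_sylow_le fun r hr => ?_
  haveI := Fact.mk hr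
  by_cases h : r = p
  · subst h; exact ⟨P, le_sup_left⟩
  · obtain ⟨Q⟩ : Nonempty (Sylow r G) := inferInstance
    refine ⟨Q, le_sup_of_le_right (FittingCores.le_pPrimeCore inferInstance ?_)⟩
    obtain ⟨i, hi⟩ := IsPGroup.iff_card.1 Q.isPGroup'
    rw [hi]
    exact ((Nat.coprime_primes hr hp.out).2 h).pow_left i

/-- In a solvable group with the condition the lower central term lies in the Fitting subgroup. -/
theorem Cond.lcs_le_fitting [Group.IsSolvable G] {k : ℕ} (h : Cond G k) :
    (⊤ : Subgroup G).lowerCentralSeries k ≤ Cfsg.fittingSubgroup G := by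
  haveI : (Cfsg.fittingSubgroup G).Normal := FittingCores.fitting_normal
  obtain ⟨n, hn⟩ := h.exists_lcs_le_fitting
  refine lowerCentralSeries_le_of_val_subset k _ inferInstance fun x hx => ?_
  rw [SetLike.mem_coe, ← QuotientGroup.eq_one_iff]
  haveI : Group.IsNilpotent (G ⧸ Cfsg.fittingSubgroup G) := by
    rw [Subgroup.nilpotent_iff_lowerCentralSeries]
    refine ⟨n, ?_⟩
    rw [← lcs_map_top (QuotientGroup.mk'_surjective _), Subgroup.map_eq_bot_iff,
      QuotientGroup.ker_mk']
    exact hn
  refine eq_one_of_forall_pPrimeCore fun p hp => ?_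
  haveI := Fact.mk hp
  set f := QuotientGroup.mk' (Cfsg.fittingSubgroup G) with hf
  set L := Cfsg.pPrimeCore p (G ⧸ Cfsg.fittingSubgroup G)
  haveI : L.Normal := FittingCores.pPrimeCore_normal p
  obtain ⟨P⟩ : Nonempty (Sylow p G) := inferInstance
  set g : (P : Subgroup G) →* (G ⧸ Cfsg.fittingSubgroup G) ⧸ L :=
    ((QuotientGroup.mk' L).comp f).comp (P : Subgroup G).subtype with hg
  have hgs : Function.Surjective g := by
    rw [← MonoidHom.range_eq_top, hg, MonoidHom.range_comp, Subgroup.range_subtype,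
      ← Subgroup.map_map]
    have h2 := congrArg (Subgroup.map (QuotientGroup.mk' L))
      (sylow_sup_pPrimeCore (P.mapSurjective (QuotientGroup.mk'_surjective
        (Cfsg.fittingSubgroup G))))
    rw [Subgroup.map_sup, QuotientGroup.map_mk'_self, sup_bot_eq, Sylow.coe_mapSurjective,
      Subgroup.map_top_of_surjective _ (QuotientGroup.mk'_surjective L)] at h2
    exact h2
  obtain ⟨z, hz, hzx⟩ := map_surjective hgs
    (map_mem ((QuotientGroup.mk' L).comp f) hx)
  obtain ⟨i, hi⟩ := mem_isPGroup_orderOf P.isPGroup' z.2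
  have hzF : (z : G) ∈ Cfsg.fittingSubgroup G :=
    FittingCores.pCore_le_fitting hp (h.mem_pCore_of_injective (ι := MonoidHom.id G)
      Function.injective_id hp (map_mem (P : Subgroup G).subtype hz) hi)
  have h1 : g z = 1 := by
    rw [hg, MonoidHom.comp_apply, MonoidHom.comp_apply, Subgroup.subtype_apply,
      (show f (z : G) = 1 from (QuotientGroup.eq_one_iff _).2 hzF), map_one]
  rw [h1] at hzx
  exact (QuotientGroup.eq_one_iff _).1 hzx.symm

end Cfsg.Agent.CommValues
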