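import Mathlib.GroupTheory.Nilpotent
import Mathlib.GroupTheory.Sylow
import Mathlib.Data.List.OfFn
import Cfsg.Prelude.Def_Solvable
import Cfsg.Prelude.Def_Transfer
import Cfsg.Agent.Lib.Solvable.Fitting
import Cfsg.Agent.Lib.FiniteGroup.FittingPow
import Cfsg.Agent.Lib.Transfer.Fusion

/-!
Left-normed commutator values of a fixed length, and the product-order condition on them.
The basic lemma: a value of coprime order normalising a subgroup centralises it.
-/

set_option autoImplicit false
set_option linter.style.haveILetI false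

namespace Cfsg.Agent.CommValues

open scoped commutatorElement

universe u v

/-- Left-normed commutator values with `k + 1` entries. -/
def Val (G : Type u) [Group G] : ℕ → Set G
  | 0 => Set.univ
  | k + 1 => {x | ∃ a ∈ Val G k, ∃ g : G, ⁅a, g⁆ = x}

variable {G : Type u} [Group G] {H : Type v} [Group H]

theorem exists_foldl_iff (k : ℕ) (x : G) :
    (∃ f : Fin (k + 1) → G,
      x = ((List.ofFn f).tail).foldl (fun a b => a * b * a⁻¹ * b⁻¹) (f 0)) ↔ x ∈ Val G k := by
  have key : ∀ (k : ℕ) (f : Fin (k + 1) → G),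
      ((List.ofFn f).tail).foldl (fun a b => a * b * a⁻¹ * b⁻¹) (f 0) =
        (List.ofFn fun i : Fin k => f i.succ).foldl (fun a b => a * b * a⁻¹ * b⁻¹) (f 0) := by
    intro k f
    rw [List.ofFn_succ, List.tail_cons]
  simp only [key]
  clear key
  induction k generalizing x with
  | zero => simp only [Val, Set.mem_univ, iff_true]; exact ⟨fun _ => x, by simp⟩
  | succ k ih =>
    constructor
    · rintro ⟨f, rfl⟩
      rw [List.ofFn_succ', List.concat_eq_append, List.foldl_append]
      refine ⟨_, (ih _).1 ⟨fun i => f i.castSucc, ?_⟩, f (Fin.last k).succ, rfl⟩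
      simp only [Fin.castSucc_zero, Fin.succ_castSucc]
    · rintro ⟨a, ha, g, rfl⟩
      obtain ⟨f, rfl⟩ := (ih a).2 ha
      refine ⟨Fin.snoc f g, ?_⟩
      rw [List.ofFn_succ', List.concat_eq_append, List.foldl_append]
      simp only [Fin.succ_last, Fin.snoc_last, List.foldl_cons, List.foldl_nil,
        commutatorElement_def]
      have h0 : (Fin.snoc (α := fun _ => G) f g) 0 = f 0 := by
        rw [← Fin.castSucc_zero, Fin.snoc_castSucc]
      simp only [h0, Fin.succ_castSucc, Fin.snoc_castSucc]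

theorem succ_subset : ∀ k, Val G (k + 1) ⊆ Val G k
  | 0 => fun _ _ => Set.mem_univ _
  | k + 1 => by
    rintro x ⟨a, ha, g, rfl⟩
    exact ⟨a, succ_subset k ha, g, rfl⟩

theorem map_mem (f : G →* H) : ∀ {k : ℕ} {x : G}, x ∈ Val G k → f x ∈ Val H k
  | 0, _, _ => Set.mem_univ _
  | k + 1, _, ⟨a, ha, g, hg⟩ => ⟨f a, map_mem f ha, f g, by rw [← hg, map_commutatorElement]⟩

theorem map_surjective {f : G →* H} (hf : Function.Surjective f) :
    ∀ {k : ℕ} {y : H}, y ∈ Val H k → ∃ x ∈ Val G k, f x = y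
  | 0, y, _ => let ⟨x, hx⟩ := hf y; ⟨x, Set.mem_univ _, hx⟩
  | k + 1, y, ⟨b, hb, g, hg⟩ => by
    obtain ⟨a, ha, rfl⟩ := map_surjective hf hb
    obtain ⟨c, rfl⟩ := hf g
    exact ⟨⁅a, c⁆, ⟨a, ha, c, rfl⟩, by rw [map_commutatorElement, hg]⟩

theorem conj_mem {k : ℕ} {x : G} (g : G) (hx : x ∈ Val G k) : g * x * g⁻¹ ∈ Val G k :=
  map_mem (MulAut.conj g).toMonoidHom hx

theorem comm_mem {k : ℕ} {x : G} (g : G) (hx : x ∈ Val G k) : ⁅x, g⁆ ∈ Val G k :=
  succ_subset k ⟨x, hx, g, rfl⟩

/-- The iterated commutator `[n, x, …, x]` with `i` copies of `x`. -/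
def engel (x : G) (i : ℕ) (n : G) : G := (fun a => ⁅a, x⁆)^[i] n

theorem engel_zero (x n : G) : engel x 0 n = n := rfl

theorem engel_succ (x : G) (i : ℕ) (n : G) : engel x (i + 1) n = ⁅engel x i n, x⁆ :=
  Function.iterate_succ_apply' _ i n

theorem engel_mem_val (x n : G) : ∀ i, engel x i n ∈ Val G i
  | 0 => Set.mem_univ _
  | i + 1 => ⟨_, engel_mem_val x n i, x, (engel_succ x i n).symm⟩

theorem engel_succ_mem_val (x n : G) (k : ℕ) : engel x (k + 1) n ∈ Val G k :=
  succ_subset k (engel_mem_val x n (k + 1))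

theorem map_engel (f : G →* H) (x n : G) : ∀ i, f (engel x i n) = engel (f x) i (f n)
  | 0 => rfl
  | i + 1 => by rw [engel_succ, engel_succ, map_commutatorElement, map_engel f x n i]

theorem engel_mem {N : Subgroup G} {x : G} (hx : ∀ n ∈ N, x * n * x⁻¹ ∈ N) {n : G} (hn : n ∈ N) :
    ∀ i, engel x i n ∈ N
  | 0 => hn
  | i + 1 => by
    have h := engel_mem hx hn i
    rw [engel_succ, commutatorElement_def]
    have he : engel x i n * x * (engel x i n)⁻¹ * x⁻¹ =
        engel x i n * (x * (engel x i n)⁻¹ * x⁻¹) := by group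
    rw [he]
    exact N.mul_mem h (hx _ (N.inv_mem h))

theorem coprime_orderOf [Finite G] {N : Subgroup G} {x a : G}
    (hco : (orderOf x).Coprime (Nat.card N)) (ha : a ∈ N) : (orderOf a).Coprime (orderOf x) :=
  (hco.coprime_dvd_right (Subgroup.orderOf_dvd_natCard N ha)).symm

/-- If the iterated commutators with a normalising element of coprime order vanish eventually,
then they vanish from the start. -/
theorem commute_of_engel_eq_one [Finite G] {N : Subgroup G} {x : G}
    (hx : ∀ n ∈ N, x * n * x⁻¹ ∈ N) (hco : (orderOf x).Coprime (Nat.card N)) {n : G} (hn : n ∈ N) :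
    ∀ i, engel x (i + 1) n = 1 → Commute n x
  | 0, h => by
    rw [engel_succ, engel_zero, commutatorElement_eq_one_iff_mul_comm] at h
    exact h
  | i + 1, h => by
    refine commute_of_engel_eq_one hx hco hn i ?_
    have hm : engel x (i + 1) n = ⁅engel x i n, x⁆ := engel_succ x i n
    rw [engel_succ, commutatorElement_eq_one_iff_mul_comm] at h
    set a := engel x (i + 1) n with ha
    set m := engel x i n with hmd
    have hax : a * x = m * x * m⁻¹ := by rw [hm, commutatorElement_def]; group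
    have hcp := coprime_orderOf hco (ha ▸ engel_mem hx hn (i + 1))
    have h1 : orderOf a * orderOf x = orderOf x := by
      rw [← (show Commute a x from h).orderOf_mul_eq_mul_orderOf_of_coprime hcp, hax]
      exact orderOf_injective (MulAut.conj m).toMonoidHom (MulAut.conj m).injective x
    rw [← orderOf_eq_one_iff]
    exact Nat.eq_of_mul_eq_mul_right (orderOf_pos x) (by rw [h1, one_mul])

/-- The product-order condition on values with `k + 1` entries. -/
def Cond (G : Type u) [Group G] (k : ℕ) : Prop :=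
  ∀ x ∈ Val G k, ∀ y ∈ Val G k, (orderOf x).Coprime (orderOf y) →
    (∀ r : ℕ, r.Prime → r ∣ orderOf x * orderOf y → r ∣ orderOf (x * y)) ∨
      orderOf x * orderOf y ≤ orderOf (x * y)

theorem Cond.of_injective {k : ℕ} (h : Cond G k) (f : H →* G) (hf : Function.Injective f) :
    Cond H k := by
  intro x hx y hy hc
  have := h (f x) (map_mem f hx) (f y) (map_mem f hy)
  rw [← map_mul, orderOf_injective f hf, orderOf_injective f hf, orderOf_injective f hf] at this
  exact this hc

/-- A value normalising a subgroup of coprime order centralises it. -/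
theorem Cond.commute [Finite G] {k : ℕ} (h : Cond G k) {N : Subgroup G} {x : G} (hxv : x ∈ Val G k)
    (hx : ∀ n ∈ N, x * n * x⁻¹ ∈ N) (hco : (orderOf x).Coprime (Nat.card N)) {n : G} (hn : n ∈ N) :
    Commute n x := by
  refine commute_of_engel_eq_one hx hco hn k ?_
  have hm : engel x (k + 1) n = ⁅engel x k n, x⁆ := engel_succ x k n
  set y := engel x (k + 1) n with hy
  set m := engel x k n with hmd
  have hyx : orderOf (y * x) = orderOf x := by
    have : y * x = m * x * m⁻¹ := by rw [hm, commutatorElement_def]; group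
    rw [this]
    exact orderOf_injective (MulAut.conj m).toMonoidHom (MulAut.conj m).injective x
  have hcp := coprime_orderOf hco (hy ▸ engel_mem hx hn (k + 1))
  rw [← orderOf_eq_one_iff]
  rcases h y (engel_succ_mem_val x n k) x hxv hcp with h1 | h1
  · by_contra h2
    obtain ⟨r, hr, hd⟩ := Nat.exists_prime_and_dvd h2
    have h3 := h1 r hr (dvd_mul_of_dvd_left hd _)
    rw [hyx] at h3
    exact hr.ne_one (Nat.eq_one_of_dvd_coprimes hcp hd h3)
  · rw [hyx] at h1
    have h2 : orderOf y ≤ 1 := Nat.le_of_mul_le_mul_right (by rw [one_mul]; exact h1) (orderOf_pos x)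
    have h3 := orderOf_pos y
    omega

theorem val_subset_lowerCentralSeries :
    ∀ k, Val G k ⊆ ((⊤ : Subgroup G).lowerCentralSeries k : Set G)
  | 0 => fun _ _ => Subgroup.mem_top _
  | k + 1 => by
    rintro x ⟨a, ha, g, rfl⟩
    rw [SetLike.mem_coe, Subgroup.lowerCentralSeries_succ]
    exact Subgroup.commutator_mem_commutator (val_subset_lowerCentralSeries k ha) (Subgroup.mem_top g)

theorem lowerCentralSeries_le_of_val_subset :
    ∀ (k : ℕ) (M : Subgroup G), M.Normal → Val G k ⊆ (M : Set G) →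
      (⊤ : Subgroup G).lowerCentralSeries k ≤ M
  | 0, M, _, h => fun x _ => h (Set.mem_univ x)
  | k + 1, M, hM, h => by
    haveI := hM
    have hC : (⊤ : Subgroup G).lowerCentralSeries k ≤
        (Subgroup.center (G ⧸ M)).comap (QuotientGroup.mk' M) := by
      refine lowerCentralSeries_le_of_val_subset k _ inferInstance ?_
      intro a ha
      rw [SetLike.mem_coe, Subgroup.mem_comap, Subgroup.mem_center_iff]
      intro q
      obtain ⟨g, rfl⟩ := QuotientGroup.mk'_surjective M q
      refine (commutatorElement_eq_one_iff_mul_comm.1 ?_).symm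
      rw [← map_commutatorElement]
      exact (QuotientGroup.eq_one_iff _).2 (h ⟨a, ha, g, rfl⟩)
    rw [Subgroup.lowerCentralSeries_succ, Subgroup.commutator_le]
    intro a ha g _
    rw [← QuotientGroup.eq_one_iff, ← QuotientGroup.mk'_apply, map_commutatorElement,
      commutatorElement_eq_one_iff_mul_comm]
    exact (Subgroup.mem_center_iff.1 (hC ha) _).symm

/-- Coprime elements of a finite nilpotent group commute. -/
theorem commute_of_nilpotent [Finite G] [Group.IsNilpotent G] {x y : G}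
    (h : (orderOf x).Coprime (orderOf y)) : Commute x y := by
  obtain ⟨e⟩ := ((Group.isNilpotent_of_finite_tfae (G := G)).out 0 4 rfl rfl).1 inferInstance
  suffices hh : Commute (e.symm x) (e.symm y) by
    have := hh.map e.toMonoidHom
    simpa using this
  funext p P
  haveI : Fact (p : ℕ).Prime := ⟨Nat.prime_of_mem_primeFactors p.2⟩
  set a := e.symm x p P with ha
  set b := e.symm y p P with hb
  have hax : orderOf a ∣ orderOf x := by
    rw [← e.symm.orderOf_eq x]
    exact orderOf_dvd_of_pow_eq_one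
      (congrFun (congrFun (pow_orderOf_eq_one (e.symm x)) p) P)
  have hby : orderOf b ∣ orderOf y := by
    rw [← e.symm.orderOf_eq y]
    exact orderOf_dvd_of_pow_eq_one
      (congrFun (congrFun (pow_orderOf_eq_one (e.symm y)) p) P)
  change a * b = b * a
  obtain ⟨i, hi⟩ := IsPGroup.iff_orderOf.1 P.isPGroup' a
  obtain ⟨j, hj⟩ := IsPGroup.iff_orderOf.1 P.isPGroup' b
  rcases Nat.eq_zero_or_pos i with rfl | hi0
  · rw [orderOf_eq_one_iff.1 (hi.trans (pow_zero _)), one_mul, mul_one]
  rcases Nat.eq_zero_or_pos j with rfl | hj0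
  · rw [orderOf_eq_one_iff.1 (hj.trans (pow_zero _)), one_mul, mul_one]
  exact absurd (Nat.eq_one_of_dvd_coprimes h
    ((dvd_pow_self (p : ℕ) hi0.ne').trans (hi ▸ hax))
    ((dvd_pow_self (p : ℕ) hj0.ne').trans (hj ▸ hby))) (Fact.out : (p : ℕ).Prime).ne_one

theorem coprime_pow_orderOf [Finite G] {r : ℕ} (hr : r.Prime) {R : Subgroup G} (hR : IsPGroup r R)
    {x : G} (hx : ¬ r ∣ orderOf x) : (orderOf x).Coprime (Nat.card R) := by
  haveI := Fact.mk hr
  obtain ⟨n, hn⟩ := IsPGroup.iff_card.1 hR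
  rw [hn]
  exact Nat.Coprime.pow_right n (hr.coprime_iff_not_dvd.2 hx).symm

theorem mem_isPGroup_orderOf {r : ℕ} [Fact r.Prime] {R : Subgroup G} (hR : IsPGroup r R) {x : G}
    (hx : x ∈ R) : ∃ i, orderOf x = r ^ i := by
  obtain ⟨i, hi⟩ := IsPGroup.iff_orderOf.1 hR ⟨x, hx⟩
  exact ⟨i, by rw [← hi, Subgroup.orderOf_mk]⟩

/-- If all `r`-elements which are values die in a quotient, it has a normal `r`-complement. -/
theorem hasNormalPComplement_of_val_ker [Finite G] [Finite H] {k r : ℕ} [hr : Fact r.Prime]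
    {f : G →* H} (hf : Function.Surjective f)
    (h : ∀ x ∈ Val G k, (∃ i, orderOf x = r ^ i) → f x = 1) : Cfsg.HasNormalPComplement r H := by
  refine Cfsg.Agent.Fusion.hasNormalPComplement_of_frobenius fun D hD g hg hgo => ?_
  set W := D.comap f with hW
  set X := Subgroup.normalizer (W : Set G) with hX
  obtain ⟨R⟩ : Nonempty (Sylow r W) := inferInstance
  set RG := (R : Subgroup W).map W.subtype with hRG
  have hRD : RG.map f = D := by
    set φ : W →* D := (f.subgroupComap D) with hφ
    have hφs : Function.Surjective φ := by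
      rintro ⟨d, hd⟩
      obtain ⟨w, rfl⟩ := hf d
      exact ⟨⟨w, hd⟩, rfl⟩
    have htop : ((R.mapSurjective hφs : Sylow r D) : Subgroup D) = ⊤ := by
      obtain ⟨T⟩ : Nonempty (Sylow r D) := inferInstance
      exact (R.mapSurjective hφs).is_maximal' (hD.of_equiv (Subgroup.topEquiv (G := D)).symm) le_top
        |>.symm
    apply le_antisymm
    · rintro _ ⟨_, ⟨w, _, rfl⟩, rfl⟩
      exact w.2
    · intro d hd
      have : (⟨d, hd⟩ : D) ∈ ((R.mapSurjective hφs : Sylow r D) : Subgroup D) := by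
        rw [htop]; exact Subgroup.mem_top _
      obtain ⟨w, hw, hwd⟩ := this
      exact ⟨w, ⟨w, hw, rfl⟩, congrArg Subtype.val hwd⟩
  obtain ⟨g0, hg0⟩ := hf g
  have hg0X : g0 ∈ X := by
    rw [hX, Subgroup.mem_normalizer_iff]
    intro w
    rw [hW, Subgroup.mem_comap, Subgroup.mem_comap, map_mul, map_mul, map_inv, hg0]
    exact Subgroup.mem_normalizer_iff.1 hg (f w)
  -- Frattini argument
  haveI : Finite (Sylow r W) := inferInstance
  obtain ⟨w, hw⟩ : ∃ w : W, ∀ n ∈ RG, (w : G) * g0 * n * ((w : G) * g0)⁻¹ ∈ RG := by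
    let c : W →* W :=
      { toFun := fun w => ⟨g0 * (w : G) * g0⁻¹, (Subgroup.mem_normalizer_iff.1 hg0X _).1 w.2⟩
        map_one' := by ext; simp
        map_mul' := fun a b => by ext; simp [mul_assoc] }
    have hc : Function.Surjective c := by
      rintro ⟨w, hw⟩
      refine ⟨⟨g0⁻¹ * w * g0, ?_⟩, ?_⟩
      · exact (Subgroup.mem_normalizer_iff.1 hg0X _).2 (by simpa [mul_assoc] using hw)
      · ext; simp [c, mul_assoc]
    obtain ⟨w, hw⟩ := MulAction.exists_smul_eq W (R.mapSurjective hc) R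
    refine ⟨w, ?_⟩
    rintro _ ⟨n, hn, rfl⟩
    have h1 : w * c n * w⁻¹ ∈ ((w • R.mapSurjective hc : Sylow r W) : Subgroup W) := by
      rw [Sylow.coe_subgroup_smul]
      exact ⟨c n, ⟨n, hn, rfl⟩, rfl⟩
    rw [hw] at h1
    refine ⟨_, h1, ?_⟩
    simp [c, mul_assoc]
  set g1 := (w : G) * g0 with hg1
  -- `f g1 = d * g` with `d ∈ D`; adjust inside `RG`
  obtain ⟨u, hu, hud⟩ : ∃ u ∈ RG, f u = f w := by
    have : f w ∈ RG.map f := by rw [hRD]; exact w.2
    exact this
  set g2 := u⁻¹ * g1 with hg2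
  have hg2n : ∀ n ∈ RG, g2 * n * g2⁻¹ ∈ RG := by
    intro n hn
    have : g2 * n * g2⁻¹ = u⁻¹ * (g1 * n * g1⁻¹) * u := by rw [hg2]; group
    rw [this]
    exact RG.mul_mem (RG.mul_mem (RG.inv_mem hu) (hw n hn)) hu
  have hg2g : f g2 = g := by
    rw [hg2, hg1, map_mul, map_inv, map_mul, hud, hg0, inv_mul_cancel_left]
  -- pass to an `r'`-power with the same image
  obtain ⟨g3, hg3n, hg3g, hg3r⟩ : ∃ g3 : G, (∀ n ∈ RG, g3 * n * g3⁻¹ ∈ RG) ∧ f g3 = g ∧
      ¬ r ∣ orderOf g3 := by
    obtain ⟨a, m, hrm, ham⟩ :=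
      Nat.exists_eq_pow_mul_and_not_dvd (orderOf_pos g2).ne' r hr.out.ne_one
    have hgm : orderOf g ∣ m := by
      refine Nat.Coprime.dvd_of_dvd_mul_left ((hgo.pow_right a)) ?_
      rw [← ham, ← hg2g]
      exact orderOf_map_dvd f g2
    have hcop : (r ^ a).Coprime (orderOf g) := (hgo.pow_right a).symm
    obtain ⟨b, hb⟩ := Nat.exists_mul_mod_eq_of_coprime 1 hcop (orderOf_pos g).ne'
    refine ⟨g2 ^ (r ^ a * b), ?_, ?_, ?_⟩
    · intro n hn
      generalize r ^ a * b = j
      induction j generalizing n with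
      | zero => simpa using hn
      | succ j ihj =>
        have : g2 ^ (j + 1) * n * (g2 ^ (j + 1))⁻¹ = g2 ^ j * (g2 * n * g2⁻¹) * (g2 ^ j)⁻¹ := by
          rw [pow_succ]; group
        rw [this]
        exact ihj _ (hg2n n hn)
    · rw [map_pow, hg2g]
      conv_rhs => rw [← pow_one g]
      exact pow_eq_pow_iff_modEq.2 hb.2
    · intro hd
      apply hrm
      refine hd.trans ?_
      apply orderOf_dvd_of_pow_eq_one
      rw [← pow_mul, show r ^ a * b * m = orderOf g2 * b by rw [ham]; ring, pow_mul,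
        pow_orderOf_eq_one, one_pow]
  intro d hd
  rw [← hRD] at hd
  obtain ⟨n, hn, rfl⟩ := hd
  have hone : engel g (k + 1) (f n) = 1 := by
    rw [← hg3g, ← map_engel]
    refine h _ (engel_succ_mem_val g3 n k) ?_
    exact mem_isPGroup_orderOf (R.isPGroup'.map W.subtype) (engel_mem hg3n hn (k + 1))
  have := commute_of_engel_eq_one (N := D) (x := g)
    (fun m hm => (Subgroup.mem_normalizer_iff.1 hg m).1 hm)
    (coprime_pow_orderOf hr.out hD (hr.out.coprime_iff_not_dvd.1 hgo.symm))
    (by rw [← hRD]; exact ⟨n, hn, rfl⟩) k hone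
  exact this.eq

end Cfsg.Agent.CommValues
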